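import Mathlib
import Cfsg.Agent.Lib.ThreeTransp.Basic

/-!
Conjugation-closed sets of involutions in which two non-commuting members have product of order a
fixed odd prime `p`: the elementary identities.
-/

set_option autoImplicit false

namespace CfsgLib.ThreeTransp.TwoP

open CfsgLib.Involutions CfsgLib.ThreeTransp

universe u

variable {G : Type u} [Group G] {p : ℕ} {D : Set G}

/-- A conjugation-closed set of involutions with products of order `1`, `2` or `p`. -/
structure Sys (p : ℕ) (D : Set G) : Prop where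
  prime : p.Prime
  ne_two : p ≠ 2
  invol : ∀ d ∈ D, orderOf d = 2
  conj : ∀ g : G, ∀ d ∈ D, g * d * g⁻¹ ∈ D
  prod : ∀ d ∈ D, ∀ e ∈ D, Commute d e ∨ (d * e) ^ p = 1

/-- Conjugation by an element squaring to one preserves commuting. -/
theorem commute_cnj {d a b : G} (hd : d * d = 1) :
    Commute (d * a * d) (d * b * d) ↔ Commute a b := by
  have hi : d⁻¹ = d := inv_eq_of_mul_eq_one_right hd
  conv_lhs => rw [show d * a * d = d * a * d⁻¹ by rw [hi], show d * b * d = d * b * d⁻¹ by rw [hi]]
  exact commute_conj_iff d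

theorem cnj_cnj {d a : G} (hd : d * d = 1) : d * (d * a * d) * d = a := by
  simp only [mul_assoc, hd, mul_one]
  rw [← mul_assoc, hd, one_mul]

theorem cnj_mul {d a b : G} (hd : d * d = 1) : d * (a * b) * d = d * a * d * (d * b * d) := by
  calc d * (a * b) * d = d * a * (d * d) * b * d := by rw [hd]; group
    _ = _ := by group

theorem cnj_eq_iff {d a : G} (hd : d * d = 1) : d * a * d = a ↔ Commute d a := by
  constructor
  · intro h
    show d * a = a * d
    conv_rhs => rw [← h]
    rw [mul_assoc (d * a), hd, mul_one]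
  · intro h
    rw [h.eq, mul_assoc, hd, mul_one]

namespace Sys

variable (h : Sys p D)
include h

theorem sq {d : G} (hd : d ∈ D) : d * d = 1 := invol_mul_self (h.invol d hd)

theorem inv {d : G} (hd : d ∈ D) : d⁻¹ = d := invol_inv (h.invol d hd)

theorem cnj {d e : G} (hd : d ∈ D) (he : e ∈ D) : d * e * d ∈ D := by
  have h1 := h.conj d e he
  rwa [h.inv hd] at h1

theorem ne_one {d : G} (hd : d ∈ D) : d ≠ 1 := invol_ne_one (h.invol d hd)

theorem ord {d e : G} (hd : d ∈ D) (he : e ∈ D) (hn : ¬ Commute d e) : orderOf (d * e) = p := by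
  haveI : Fact p.Prime := ⟨h.prime⟩
  refine orderOf_eq_prime ((h.prod d hd e he).resolve_left hn) fun h1 => hn ?_
  rw [mul_eq_one_iff_inv_eq, h.inv hd] at h1
  rw [h1]

theorem pow_p {d e : G} (hd : d ∈ D) (he : e ∈ D) (hn : ¬ Commute d e) : (d * e) ^ p = 1 :=
  (h.prod d hd e he).resolve_left hn

theorem commute_of_pow_four {d e : G} (hd : d ∈ D) (he : e ∈ D) (h4 : (d * e) ^ 4 = 1) :
    Commute d e := by
  by_contra hn
  have h1 := orderOf_dvd_of_pow_eq_one h4
  rw [h.ord hd he hn] at h1
  exact h.ne_two ((Nat.prime_dvd_prime_iff_eq h.prime Nat.prime_two).1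
    (h.prime.dvd_of_dvd_pow (n := 2) (by simpa using h1)))

theorem commute_self_cnj {d e : G} (hd : d ∈ D) (he : e ∈ D) :
    Commute d (e * d * e) ↔ Commute d e := by
  constructor
  · intro hc
    refine h.commute_of_pow_four hd he ?_
    have h2 := (invol_commute_iff (h.invol d hd) (h.invol _ (h.cnj he hd))).1 hc
    rw [show (4 : ℕ) = 2 * 2 from rfl, pow_mul, pow_two (d * e),
      show d * e * (d * e) = d * (e * d * e) by group]
    exact h2
  · intro hc
    rw [(cnj_eq_iff (h.sq he)).2 hc.symm]

theorem cnj_ne {d e : G} (hd : d ∈ D) (he : e ∈ D) (hn : ¬ Commute d e) : ¬ Commute d (e * d * e) :=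
  fun hc => hn ((h.commute_self_cnj hd he).1 hc)

/-- An element of order dividing `p` is a power of its square. -/
theorem eq_pow_sq {a : G} (ha : a ^ p = 1) : a = (a ^ 2) ^ ((p + 1) / 2) := by
  obtain ⟨m, hm⟩ := h.prime.odd_of_ne_two h.ne_two
  rw [← pow_mul, show 2 * ((p + 1) / 2) = p + 1 by omega, pow_succ, ha, one_mul]

theorem commute_of_sq {a t : G} (ha : a ^ p = 1) (hc : Commute t (a ^ 2)) : Commute t a := by
  rw [h.eq_pow_sq ha]
  exact hc.pow_right _

/-- The midpoint is unique. -/
theorem mid_unique {x w w' : G} (hx : x ∈ D) (hw : w ∈ D) (hw' : w' ∈ D) (h1 : ¬ Commute x w)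
    (h2 : ¬ Commute x w') (he : w * x * w = w' * x * w') : w = w' := by
  have hsq : (x * w) ^ 2 = (x * w') ^ 2 := by
    rw [pow_two, pow_two, show x * w * (x * w) = x * (w * x * w) by group, he]
    group
  have h3 : x * w = x * w' := by
    rw [h.eq_pow_sq (h.pow_p hx hw h1), h.eq_pow_sq (h.pow_p hx hw' h2), hsq]
  exact mul_left_cancel h3

theorem mid_exists {x v : G} (hx : x ∈ D) (hv : v ∈ D) (hn : ¬ Commute x v) :
    ∃ w ∈ D, ¬ Commute x w ∧ w * x * w = v := by
  obtain ⟨m, hm⟩ := h.prime.odd_of_ne_two h.ne_two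
  set k : ℕ := (p + 1) / 2 with hk
  have hwD := refl_mem h.conj hx hv (h.invol x hx) (h.invol v hv) (k : ℤ)
  set w := x * (x * v) ^ (k : ℤ) with hw
  have he : w * x * w = v := by
    have h1 := refl_conj_self (h.invol x hx) (h.invol v hv) (k : ℤ)
    rw [← hw, h.inv hwD] at h1
    rw [h1, show (2 * (k : ℤ)) = ((p + 1 : ℕ) : ℤ) by omega, zpow_natCast, pow_succ,
      h.pow_p hx hv hn, one_mul, ← eq_invol_mul_prod (h.invol x hx)]
  refine ⟨w, hwD, fun hc => hn ?_, he⟩
  rw [← he, (cnj_eq_iff (h.sq hwD)).2 hc.symm]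

/-- An element commuting with a product of two commuting members commutes with both. -/
theorem commute_of_prod {x z u : G} (hx : x ∈ D) (hz : z ∈ D) (hu : u ∈ D) (hne : x ≠ z)
    (hxz : Commute x z) (hc : Commute u (x * z)) : Commute u x := by
  by_contra hn
  have hnz : ¬ Commute u z := fun h1 => hn (by
    have h2 := hc.mul_right h1
    rwa [mul_assoc, h.sq hz, mul_one] at h2)
  refine hne (h.mid_unique hu hx hz hn hnz ?_)
  have h1 : u = x * z * u * (z * x) := by
    rw [← hc.eq]
    simp only [mul_assoc]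
    rw [← mul_assoc z z x, h.sq hz, one_mul, h.sq hx, mul_one]
  conv_lhs => rw [h1]
  simp only [mul_assoc, h.sq hx, mul_one]
  rw [← mul_assoc x x, h.sq hx, one_mul]

theorem commute_of_prod' {x z u : G} (hx : x ∈ D) (hz : z ∈ D) (hu : u ∈ D) (hne : x ≠ z)
    (hxz : Commute x z) (hc : Commute u (x * z)) : Commute u z :=
  h.commute_of_prod hz hx hu hne.symm hxz.symm (hxz.eq ▸ hc)

/-- Three commuting members with product `1`: nobody commutes with exactly one of them. -/
theorem triple_commute {x z v : G} (hx : x ∈ D) (hz : z ∈ D) (hr : x * z ∈ D) (hv : v ∈ D)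
    (hxz : Commute x z) (hc : Commute v x) : Commute v z := by
  by_contra hn
  have hnr : ¬ Commute v (x * z) := fun h1 => hn (by
    have h2 := hc.mul_right h1
    rwa [← mul_assoc, h.sq hx, one_mul] at h2)
  have he : x * z * v * (x * z) = z * v * z := by
    calc x * z * v * (x * z) = x * z * v * (z * x) := by rw [hxz.eq]
      _ = z * x * v * (z * x) := by rw [hxz.eq]
      _ = z * (x * v) * z * x := by group
      _ = z * (v * x) * z * x := by rw [hc.eq]
      _ = z * v * (x * z) * x := by group
      _ = z * v * (z * x) * x := by rw [hxz.eq]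
      _ = z * v * z := by simp only [mul_assoc, h.sq hx, mul_one]
  have h1 := h.mid_unique hv hr hz hnr hn he
  exact h.ne_one hx (mul_eq_right.1 h1)

/-- Either `x y x` and `z y z` commute, or a third member behaves like `x z` on `y`. -/
theorem commute_or_third {x z y : G} (hx : x ∈ D) (hz : z ∈ D) (hy : y ∈ D) (hne : x ≠ z)
    (hxz : Commute x z) (hxy : ¬ Commute x y) (hzy : ¬ Commute z y) :
    Commute (x * y * x) (z * y * z) ∨ ∃ r ∈ D, ¬ Commute r y ∧ Commute x r ∧ Commute z r ∧
      r * y * r = x * z * y * (x * z) := by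
  by_cases h4 : Commute (x * y * x) (z * y * z)
  · exact Or.inl h4
  refine Or.inr ?_
  set t := x * z with ht
  have htt : t * t = 1 := by
    rw [ht]
    calc x * z * (x * z) = x * z * (z * x) := by rw [hxz.eq]
      _ = 1 := by simp only [mul_assoc]; rw [← mul_assoc z z x, h.sq hz, one_mul, h.sq hx]
  have hti : t⁻¹ = t := inv_eq_of_mul_eq_one_right htt
  have hvD : t * y * t ∈ D := by
    have := h.conj t y hy
    rwa [hti] at this
  have hyv : ¬ Commute y (t * y * t) := fun hc => h4 (by
    have h1 := (commute_cnj (h.sq hx)).2 hc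
    have e : x * (t * y * t) * x = z * y * z := by
      rw [ht]
      calc x * (x * z * y * (x * z)) * x = (x * x) * z * y * (x * z) * x := by group
        _ = z * y * (z * x) * x := by rw [h.sq hx, hxz.eq]; group
        _ = z * y * z := by simp only [mul_assoc, h.sq hx, mul_one]
    rwa [e] at h1)
  obtain ⟨r, hr, hyr, he⟩ := h.mid_exists hy hvD hyv
  have hw : t * r * t ∈ D := by
    have := h.conj t r hr
    rwa [hti] at this
  have hback : r * (t * y * t) * r = y := by rw [← he, cnj_cnj (h.sq hr)]
  have e1 : t * r * t * y * (t * r * t) = t * y * t := by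
    calc t * r * t * y * (t * r * t) = t * (r * (t * y * t) * r) * t := by group
      _ = t * y * t := by rw [hback]
  have hfix : t * r * t = r := h.mid_unique hy hw hr (fun hc => hyv (by
      have e2 := e1
      rw [(cnj_eq_iff (h.sq hw)).2 hc.symm] at e2
      rw [← e2])) hyr (e1.trans he.symm)
  have hrt : Commute r t := ((cnj_eq_iff htt).1 hfix).symm
  refine ⟨r, hr, fun hc => hyr hc.symm, (h.commute_of_prod hx hz hr hne hxz hrt).symm,
    (h.commute_of_prod' hx hz hr hne hxz hrt).symm, he⟩

end Sys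

end CfsgLib.ThreeTransp.TwoP
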