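import Mathlib
import Cfsg.Agent.Lib.ThreeTransp.TwoP.Basic

/-!
Systems with products `1`, `2`, `p`: passage to subgroups and quotients, and, for `p ≥ 5`, twins.
-/

set_option autoImplicit false
set_option linter.style.haveILetI false

namespace CfsgLib.ThreeTransp.TwoP

open CfsgLib.Involutions CfsgLib.ThreeTransp

universe u

/-- No group of order less than `n` has a commuting pair with product in the system and a member
commuting with none of the three. -/
def NoTriBelow (p n : ℕ) : Prop :=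
  ∀ (H : Type u) [Group H] [Finite H] (D : Set H), Nat.card H < n → Sys p D →
    ∀ x ∈ D, ∀ z ∈ D, ∀ y ∈ D, x * z ∈ D → Commute x z → ¬ Commute x y → ¬ Commute z y →
      ¬ Commute (x * z) y → False

variable {G : Type u} [Group G] {p : ℕ} {D : Set G}

namespace Sys

variable (h : Sys p D)
include h

/-- The trace of a system on a subgroup. -/
theorem restrict (K : Subgroup G) : Sys p {d : ↥K | (d : G) ∈ D} := by
  refine ⟨h.prime, h.ne_two, fun d hd => by rw [← Subgroup.orderOf_coe]; exact h.invol _ hd,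
    fun g d hd => h.conj (g : G) _ hd, fun d hd e he => ?_⟩
  rcases h.prod _ hd _ he with h1 | h1
  · exact Or.inl (Subtype.ext h1)
  · exact Or.inr (Subtype.ext (by simpa using h1))

/-- The image of a system in a quotient. -/
theorem quotient (N : Subgroup G) [N.Normal] :
    Sys p {q : G ⧸ N | q ≠ 1 ∧ ∃ d ∈ D, QuotientGroup.mk' N d = q} := by
  refine ⟨h.prime, h.ne_two, ?_, ?_, ?_⟩
  · rintro q ⟨hq, d, hd, rfl⟩
    refine invol_iff.2 ⟨?_, hq⟩
    rw [← map_mul, h.sq hd, map_one]
  · rintro g q ⟨hq, d, hd, rfl⟩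
    obtain ⟨g, rfl⟩ := QuotientGroup.mk'_surjective N g
    refine ⟨fun h1 => hq (conj_eq_one_iff.1 h1), g * d * g⁻¹, h.conj g d hd, ?_⟩
    simp only [map_mul, map_inv]
  · rintro q ⟨-, d, hd, rfl⟩ q' ⟨-, e, he, rfl⟩
    rcases h.prod d hd e he with h1 | h1
    · exact Or.inl (h1.map _)
    · exact Or.inr (by rw [← map_mul, ← map_pow, h1, map_one])

variable [Finite G]

/-- The configuration does not live in a proper subgroup. -/
theorem sub_top (hb : NoTriBelow.{u} p (Nat.card G)) {x z y : G} (hx : x ∈ D) (hz : z ∈ D)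
    (hy : y ∈ D) (hr : x * z ∈ D) (hxz : Commute x z) (hxy : ¬ Commute x y) (hzy : ¬ Commute z y)
    (hry : ¬ Commute (x * z) y) {K : Subgroup G} (xK : x ∈ K) (zK : z ∈ K) (yK : y ∈ K) :
    K = ⊤ := by
  by_contra hK
  have hle := K.card_le_card_group
  have hlt : Nat.card K < Nat.card G :=
    lt_of_le_of_ne hle fun e => hK (Subgroup.eq_top_of_card_eq K e)
  exact hb ↥K _ hlt (h.restrict K) ⟨x, xK⟩ hx ⟨z, zK⟩ hz ⟨y, yK⟩ hy hr (Subtype.ext hxz)
    (fun hc => hxy (congrArg Subtype.val hc)) (fun hc => hzy (congrArg Subtype.val hc))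
    (fun hc => hry (congrArg Subtype.val hc))

/-- Reduction modulo a nontrivial normal subgroup. -/
theorem quot_false {n : ℕ} (hb : NoTriBelow.{u} p n) (hn : Nat.card G ≤ n) {N : Subgroup G}
    [N.Normal] (hN : N ≠ ⊥) {x z y r : G} (hx : x ∈ D) (hz : z ∈ D) (hy : y ∈ D) (hr : r ∈ D)
    (hrxz : x * z * r ∈ N) (hxz : Commute x z) (xN : x ∉ N) (zN : z ∉ N) (rN : r ∉ N)
    (hxy : ¬ Commute x y) (hzy : ¬ Commute z y) (hry : ¬ Commute r y)
    (xyN : x * y ∉ N) (zyN : z * y ∉ N) (ryN : r * y ∉ N) : False := by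
  have hlt : Nat.card (G ⧸ N) < n := by
    refine lt_of_lt_of_le ?_ hn
    rw [Subgroup.card_eq_card_quotient_mul_card_subgroup N]
    exact lt_mul_of_one_lt_right Nat.card_pos (Subgroup.one_lt_card_iff_ne_bot _ |>.2 hN)
  have yN : y ∉ N := fun hyN => by
    have h1 : x * y * x⁻¹ ∈ N := (inferInstance : N.Normal).conj_mem y hyN x
    obtain ⟨w, hw, -, he⟩ := h.mid_exists hy hx (fun hc => hxy hc.symm)
    apply xN
    rw [← he]
    have := (inferInstance : N.Normal).conj_mem y hyN w
    rwa [h.inv hw] at this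
  have hmem : ∀ {d : G}, d ∈ D → d ∉ N → QuotientGroup.mk' N d ∈
      {q : G ⧸ N | q ≠ 1 ∧ ∃ d ∈ D, QuotientGroup.mk' N d = q} := fun {d} hd hdN =>
    ⟨fun e => hdN ((QuotientGroup.eq_one_iff d).1 e), d, hd, rfl⟩
  have hnc : ∀ {d : G}, d ∈ D → d * y ∉ N → ¬ Commute d y →
      ¬ Commute (QuotientGroup.mk' N d) (QuotientGroup.mk' N y) := by
    intro d hd hdy hdn hc
    apply hdy
    have h1 : (d * y) ^ 2 ∈ N := by
      rw [← QuotientGroup.eq_one_iff, pow_two]
      show QuotientGroup.mk' N (d * y * (d * y)) = 1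
      rw [map_mul, map_mul, ← hc.mul_mul_mul_comm, ← map_mul, ← map_mul, h.sq hd, h.sq hy,
        map_one, one_mul]
    rw [h.eq_pow_sq (h.pow_p hd hy hdn)]
    exact N.pow_mem h1 _
  have e3 : QuotientGroup.mk' N x * QuotientGroup.mk' N z = QuotientGroup.mk' N r := by
    have h1 : QuotientGroup.mk' N (x * z * r) = 1 := (QuotientGroup.eq_one_iff _).2 hrxz
    rw [map_mul, map_mul] at h1
    rw [eq_inv_of_mul_eq_one_left h1, ← map_inv, h.inv hr]
  refine hb (G ⧸ N) _ hlt (h.quotient N) _ (hmem hx xN) _ (hmem hz zN) _ (hmem hy yN) ?_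
    (hxz.map _) (hnc hx xyN hxy) (hnc hz zyN hzy) ?_
  · rw [e3]; exact hmem hr rN
  · rw [e3]; exact hnc hr ryN hry

/-- For a commuting pair and an outside member the two conjugates commute, unless the product of
the pair is a member. -/
theorem commute_or_prod_mem (hb : NoTriBelow.{u} p (Nat.card G)) {x z y : G} (hx : x ∈ D)
    (hz : z ∈ D) (hy : y ∈ D) (hne : x ≠ z) (hxz : Commute x z) (hxy : ¬ Commute x y)
    (hzy : ¬ Commute z y) : Commute (x * y * x) (z * y * z) ∨ x * z ∈ D := by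
  rcases h.commute_or_third hx hz hy hne hxz hxy hzy with h4 | ⟨r, hr, hry, hxr, hzr, he⟩
  · exact Or.inl h4
  by_cases hxzD : x * z ∈ D
  · exact Or.inr hxzD
  exfalso
  set t := x * z with ht
  set w := t * r with hwdef
  have htr : Commute t r := Commute.mul_left hxr hzr
  have htt : t * t = 1 := by
    rw [ht, ← hxz.mul_mul_mul_comm, h.sq hx, h.sq hz, one_mul]
  have hww : w * w = 1 := by
    rw [hwdef, ← htr.mul_mul_mul_comm, htt, h.sq hr, one_mul]
  have hw1 : w ≠ 1 := fun e => hxzD (by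
    show t ∈ D
    rw [eq_inv_of_mul_eq_one_left e, h.inv hr]
    exact hr)
  have hwx : Commute w x :=
    ((Commute.refl x).mul_left hxz.symm).mul_left hxr.symm
  have hwz : Commute w z := ((hxz).mul_left (Commute.refl z)).mul_left hzr.symm
  have hwr : Commute w r := htr.mul_left (Commute.refl r)
  have hwy : Commute w y := by
    refine ((cnj_eq_iff hww).1 ?_)
    calc w * y * w = t * r * y * (r * t) := by rw [hwdef]; nth_rewrite 2 [htr.eq]; rfl
      _ = t * (r * y * r) * t := by group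
      _ = t * (t * y * t) * t := by rw [he]
      _ = y := cnj_cnj htt
  set H := Subgroup.closure ({x, z, r, y} : Set G) with hH
  have hxH : x ∈ H := Subgroup.subset_closure (by simp)
  have hzH : z ∈ H := Subgroup.subset_closure (by simp)
  have hrH : r ∈ H := Subgroup.subset_closure (by simp)
  have hyH : y ∈ H := Subgroup.subset_closure (by simp)
  have hwH : w ∈ H := mul_mem (mul_mem hxH hzH) hrH
  have hcen : ∀ g ∈ H, Commute w g := by
    intro g hg
    have hle : H ≤ Subgroup.centralizer ({w} : Set G) := by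
      rw [hH, Subgroup.closure_le]
      rintro s (rfl | rfl | rfl | rfl) <;>
        rw [SetLike.mem_coe, Subgroup.mem_centralizer_singleton_iff]
      exacts [hwx.symm.eq, hwz.symm.eq, hwr.symm.eq, hwy.symm.eq]
    exact (Subgroup.mem_centralizer_singleton_iff.1 (hle hg)).symm
  set N : Subgroup H := Subgroup.zpowers ⟨w, hwH⟩ with hNdef
  haveI hNn : N.Normal := by
    refine ⟨fun m hm g => ?_⟩
    obtain ⟨k, rfl⟩ := Subgroup.mem_zpowers_iff.1 hm
    have hc : Commute g (⟨w, hwH⟩ : H) := Subtype.ext (hcen g g.2).symm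
    rw [(hc.zpow_right k).eq, mul_inv_cancel_right]
    exact hm
  have hNmem : ∀ {s : H}, s ∈ N → (s : G) = 1 ∨ (s : G) = w := by
    intro s hs
    obtain ⟨k, rfl⟩ := Subgroup.mem_zpowers_iff.1 hs
    rcases Int.even_or_odd k with ⟨m, rfl⟩ | ⟨m, rfl⟩
    · left
      rw [Subgroup.coe_zpow, Subgroup.coe_mk, ← two_mul, zpow_mul, zpow_two, hww, one_zpow]
    · right
      rw [Subgroup.coe_zpow, Subgroup.coe_mk, zpow_add, zpow_mul, zpow_two, hww, one_zpow, one_mul,
        zpow_one]
  have hN : N ≠ ⊥ := fun e => hw1 (congrArg Subtype.val (Subgroup.zpowers_eq_bot.1 e))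
  have hnot : ∀ {d : G} (hd : d ∈ D) (hdH : d ∈ H), ¬ Commute d y → (⟨d, hdH⟩ : H) ∉ N ∧
      (⟨d, hdH⟩ * ⟨y, hyH⟩ : H) ∉ N := by
    intro d hd hdH hdn
    refine ⟨fun hm => ?_, fun hm => ?_⟩
    · rcases hNmem hm with e | e
      · exact h.ne_one hd e
      · exact hdn (show Commute d y by rw [show d = w from e]; exact hwy)
    · have h2 : (d * y) ^ 2 = 1 := by
        rcases hNmem hm with e | e <;> rw [show d * y = _ from e, pow_two]
        · rw [one_mul]
        · exact hww
      exact hdn ((invol_commute_iff (h.invol d hd) (h.invol y hy)).2 h2)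
  have hHcard : Nat.card H ≤ Nat.card G := H.card_le_card_group
  exact (h.restrict H).quot_false hb hHcard hN (x := ⟨x, hxH⟩) (z := ⟨z, hzH⟩) (y := ⟨y, hyH⟩)
    (r := ⟨r, hrH⟩) hx hz hy hr (Subgroup.mem_zpowers _) (Subtype.ext hxz) (hnot hx hxH hxy).1
    (hnot hz hzH hzy).1 (hnot hr hrH hry).1 (fun hc => hxy (congrArg Subtype.val hc))
    (fun hc => hzy (congrArg Subtype.val hc)) (fun hc => hry (congrArg Subtype.val hc))
    (hnot hx hxH hxy).2 (hnot hz hzH hzy).2 (hnot hr hrH hry).2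

end Sys

end CfsgLib.ThreeTransp.TwoP
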