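import Mathlib
import Cfsg.Agent.Lib.ThreeTransp.TwoP.Trans

/-!
For `p ≥ 5` commuting members with a common non-neighbour are twins, so commuting is transitive.
-/

set_option autoImplicit false
set_option linter.style.haveILetI false

namespace CfsgLib.ThreeTransp.TwoP

open CfsgLib.Involutions CfsgLib.ThreeTransp

universe u

variable {G : Type u} [Group G] {p : ℕ} {D : Set G}

namespace Sys

variable (h : Sys p D)
include h
variable [Finite G]

theorem twins (hb : NoTriBelow.{u} p (Nat.card G)) (h5 : 5 ≤ p) {x z y v : G} (hx : x ∈ D)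
    (hz : z ∈ D) (hy : y ∈ D) (hv : v ∈ D) (hxz : Commute x z) (hxy : ¬ Commute x y)
    (hzy : ¬ Commute z y) (hvx : Commute v x) : Commute v z := by
  by_cases hne : x = z
  · exact hne ▸ hvx
  by_cases hxzD : x * z ∈ D
  · exact h.triple_commute hx hz hxzD hv hxz hvx
  have c := (h.commute_or_prod_mem hb hx hz hy hne hxz hxy hzy).resolve_right hxzD
  set t := x * z with ht
  set x' := y * x * y with hx'
  set z' := y * z * y with hz'
  set s := x' * z' with hs
  have hx'D : x' ∈ D := h.cnj hy hx
  have hz'D : z' ∈ D := h.cnj hy hz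
  have hx'z' : Commute x' z' := (commute_cnj (h.sq hy)).2 hxz
  have hne' : x' ≠ z' := fun e => hne (by
    rw [← cnj_cnj (h.sq hy) (a := x), ← cnj_cnj (h.sq hy) (a := z)]
    exact congrArg (fun a => y * a * y) e)
  have hts' : s = y * t * y := (cnj_mul (h.sq hy)).symm
  have htt : t * t = 1 := by rw [ht, ← hxz.mul_mul_mul_comm, h.sq hx, h.sq hz, one_mul]
  have hss : s * s = 1 := by
    rw [hts', show y * t * y * (y * t * y) = y * t * (y * y) * t * y by group, h.sq hy, mul_one,
      mul_assoc y t t, htt, mul_one, h.sq hy]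
  have hsi : s⁻¹ = s := inv_eq_of_mul_eq_one_right hss
  have hsD : s ∉ D := fun hm => hxzD (by
    have h1 := h.cnj hy hm
    rwa [hts', cnj_cnj (h.sq hy)] at h1)
  have hts : Commute t s := by
    have h1 : Commute y (t * y * t) := by
      have h2 := (commute_cnj (h.sq hx)).2 c
      rw [cnj_cnj (h.sq hx)] at h2
      have e : x * (z * y * z) * x = t * y * t := by
        rw [ht]; nth_rewrite 2 [hxz.eq]; group
      rwa [e] at h2
    show t * s = s * t
    rw [hts']
    calc t * (y * t * y) = t * y * t * y := by group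
      _ = y * (t * y * t) := h1.eq.symm
      _ = y * t * y * t := by group
  have hxx' : ¬ Commute x' x := fun hc => hxy ((h.commute_self_cnj hx hy).1 hc.symm)
  have hxz' : ¬ Commute z' x := fun hc => by
    have h1 : Commute z x' := by
      have h2 := (commute_cnj (h.sq hy)).2 hc
      rwa [hz', cnj_cnj (h.sq hy), ← hx'] at h2
    have h3 : Commute z ((x * y) ^ 2) := by
      rw [pow_two, show x * y * (x * y) = x * x' by rw [hx']; group]
      exact hxz.symm.mul_right h1
    have h4 := h.commute_of_sq (h.pow_p hx hy hxy) h3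
    apply hzy
    have h5 := hxz.symm.mul_right h4
    rwa [← mul_assoc, h.sq hx, one_mul] at h5
  have hxs : Commute x (s * x * s) := by
    have c2 := (h.commute_or_prod_mem hb hx'D hz'D hx hne' hx'z' hxx' hxz').resolve_right hsD
    have h2 := (commute_cnj (h.sq hx'D)).2 c2
    rw [cnj_cnj (h.sq hx'D)] at h2
    have e : x' * (z' * x * z') * x' = s * x * s := by
      rw [hs]; nth_rewrite 2 [hx'z'.eq]; group
    rwa [e] at h2
  set z1 := s * x * s with hz1
  set z2 := s * z * s with hz2
  have hz1D : z1 ∈ D := by have := h.conj s x hx; rwa [hsi] at this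
  have hz2D : z2 ∈ D := by have := h.conj s z hz; rwa [hsi] at this
  have hsts : s * t * s = t := (cnj_eq_iff hss).2 hts.symm
  have hz12 : z2 = z1 * t := by
    calc z2 = s * (x * t) * s := by rw [hz2, ht, ← mul_assoc x x, h.sq hx, one_mul]
      _ = z1 * t := by rw [cnj_mul hss, hsts]
  have hxt : Commute x t := (Commute.refl x).mul_right hxz
  have hz1t : Commute z1 t := by
    have := (commute_cnj hss).2 hxt
    rwa [hsts, ← hz1] at this
  have hzz1 : Commute z z1 := by
    have h1 : Commute z1 (x * t) := hxs.symm.mul_right hz1t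
    rw [ht, ← mul_assoc, h.sq hx, one_mul] at h1
    exact h1.symm
  have hz1z2 : Commute z1 z2 := (commute_cnj hss).2 hxz
  have hxz2 : Commute x z2 := by rw [hz12]; exact hxs.mul_right hxt
  have hzz2 : Commute z z2 := by rw [hz12]; exact hzz1.mul_right (hxz.symm.mul_right (Commute.refl z))
  have hz1x : z1 ≠ x := fun e => hxx'
    (h.commute_of_prod hx'D hz'D hx hne' hx'z' ((cnj_eq_iff hss).1 e).symm).symm
  have hz2z : z2 ≠ z := fun e => by
    have h1 := h.commute_of_prod hx'D hz'D hz hne' hx'z' ((cnj_eq_iff hss).1 e).symm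
    have h3 : Commute z ((x * y) ^ 2) := by
      rw [pow_two, show x * y * (x * y) = x * x' by rw [hx']; group]
      exact hxz.symm.mul_right h1
    apply hzy
    have h5 := hxz.symm.mul_right (h.commute_of_sq (h.pow_p hx hy hxy) h3)
    rwa [← mul_assoc, h.sq hx, one_mul] at h5
  have hz1z : z1 ≠ z := by
    intro e
    set a := x * y with ha
    have hap := h.pow_p hx hy hxy
    have hsx : x * s * x = t * s := by
      have h1 : s * x = x * t * s := by
        calc s * x = s * x * s * s := by rw [mul_assoc (s * x), hss, mul_one]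
          _ = x * t * s := by rw [← hz1, e, ht, ← mul_assoc x x, h.sq hx, one_mul]
      calc x * s * x = x * (s * x) := mul_assoc _ _ _
        _ = x * (x * t * s) := by rw [h1]
        _ = t * s := by rw [mul_assoc x t s, ← mul_assoc, h.sq hx, one_mul]
    have htx : x * t * x = t := (cnj_eq_iff (h.sq hx)).2 hxt
    have hsy : y * s * y = t := by rw [hts', cnj_cnj (h.sq hy)]
    have A : ∀ g : G, a * g * a⁻¹ = x * (y * g * y) * x := fun g => by
      rw [ha, mul_inv_rev, h.inv hx, h.inv hy]; group
    have a1 : a * t * a⁻¹ = t * s := by rw [A, ← hts', hsx]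
    have a2 : a * s * a⁻¹ = t := by rw [A, hsy, htx]
    have a3 : a * (t * s) * a⁻¹ = s := by
      rw [show a * (t * s) * a⁻¹ = a * t * a⁻¹ * (a * s * a⁻¹) by group, a1, a2, mul_assoc,
        ← hts.eq, ← mul_assoc, htt, one_mul]
    have hc3 : Commute (a ^ 3) t := by
      show a ^ 3 * t = t * a ^ 3
      rw [← mul_inv_eq_iff_eq_mul]
      calc a ^ 3 * t * (a ^ 3)⁻¹ = a * (a * (a * t * a⁻¹) * a⁻¹) * a⁻¹ := by
            simp only [pow_succ, pow_zero, one_mul, mul_inv_rev, mul_assoc]
        _ = t := by rw [a1, a3, a2]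
    have hta : Commute t a := by
      have hp3 : p % 3 = 1 ∨ p % 3 = 2 := by
        have hd : ¬ 3 ∣ p := fun hd => by
          rcases h.prime.eq_one_or_self_of_dvd 3 hd with h1 | h1 <;> omega
        omega
      obtain ⟨m, j, hm⟩ : ∃ m j : ℕ, 3 * m = j * p + 1 := by
        rcases hp3 with h1 | h1
        · exact ⟨2 * (p / 3) + 1, 2, by omega⟩
        · exact ⟨p / 3 + 1, 1, by omega⟩
      have he : a = (a ^ 3) ^ m := by
        rw [← pow_mul, hm, pow_succ, mul_comm j p, pow_mul, hap, one_pow, one_mul]
      rw [he]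
      exact (hc3.symm).pow_right m
    apply hxy
    refine (h.commute_of_prod hx hz hy hne hxz ?_).symm
    have h5 := hxt.symm.mul_right hta
    rw [ha, ← mul_assoc, h.sq hx, one_mul] at h5
    exact h5.symm
  by_contra hn
  have h1 : ¬ Commute v z1 := fun hc => hn (by
    have h2 : Commute v (z * z2) := by
      have h3 : z * z2 = x * z1 := by
        calc z * z2 = z * (t * z1) := by rw [hz12, hz1t.eq]
          _ = z * (z * x * z1) := by rw [ht, hxz.eq]
          _ = x * z1 := by rw [mul_assoc z x z1, ← mul_assoc, h.sq hz, one_mul]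
      rw [h3]; exact hvx.mul_right hc
    exact h.commute_of_prod hz hz2D hv hz2z.symm hzz2 h2)
  have h2 : ¬ Commute v z2 := fun hc => hn (by
    have h2 : Commute v (z * z1) := by
      have h3 : z * z1 = x * z2 := by
        calc z * z1 = z1 * z := hzz1.eq
          _ = z1 * (x * (x * z)) := by rw [← mul_assoc x x, h.sq hx, one_mul]
          _ = x * z1 * t := by rw [← mul_assoc, hxs.eq]
          _ = x * z2 := by rw [hz12, mul_assoc]
      rw [h3]; exact hvx.mul_right hc
    exact h.commute_of_prod hz hz1D hv hz1z.symm hzz1 h2)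
  have hz2e : z2 = x * (z * z1) := by
    rw [hz12, hz1t.eq, ht, mul_assoc]
  rcases h.commute_or_prod_mem hb hz hz1D hv hz1z.symm hzz1 (fun hc => hn hc.symm)
      (fun hc => h1 hc.symm) with c3 | c3
  · apply h2
    set w := z * z1 with hw
    have hww : w * w = 1 := by rw [hw, ← hzz1.mul_mul_mul_comm, h.sq hz, h.sq hz1D, one_mul]
    have hvw : Commute v (w * v * w) := by
      have h3 := (commute_cnj (h.sq hz)).2 c3
      rw [cnj_cnj (h.sq hz)] at h3
      have e : z * (z1 * v * z1) * z = w * v * w := by
        rw [hw]; nth_rewrite 2 [hzz1.eq]; group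
      rwa [e] at h3
    have hwi : w⁻¹ = w := inv_eq_of_mul_eq_one_right hww
    have hwvD : w * v * w ∈ D := by have := h.conj w v hv; rwa [hwi] at this
    have h4 : (v * w) ^ 4 = 1 := by
      have h5 := (invol_commute_iff (h.invol v hv) (h.invol _ hwvD)).1 hvw
      rw [show (4 : ℕ) = 2 * 2 from rfl, pow_mul, pow_two (v * w),
        show v * w * (v * w) = v * (w * v * w) by group]
      exact h5
    refine h.commute_of_pow_four hv hz2D ?_
    have hxw : Commute x w := hxz.mul_right hxs
    rw [hz2e, ← mul_assoc, hvx.eq, mul_assoc, (hvx.symm.mul_right hxw).mul_pow, h4, mul_one,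
      show (4 : ℕ) = 2 * 2 from rfl, pow_mul, pow_two x, h.sq hx, one_pow]
  · apply h2
    rw [hz2e]
    exact hvx.mul_right (h.triple_commute hx c3 (by rw [← hz2e]; exact hz2D) hv
      (hxz.mul_right hxs) hvx)

/-- Two members linked by non-commuting steps commute only through twins. -/
theorem trans_of_connected (hb : NoTriBelow.{u} p (Nat.card G)) (h5 : 5 ≤ p) {d0 : G}
    (hd0 : d0 ∈ D) (hcl : D = conjugatesOf d0) (hgen : Subgroup.closure D = ⊤) {a b c : G}
    (ha : a ∈ D) (hb' : b ∈ D) (hc : c ∈ D) (hab : Commute a b) (hbc : Commute b c) :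
    Commute a c := by
  by_cases hne : a = b
  · exact hne ▸ hbc
  -- the component of `a`
  let R : G → G → Prop := fun u w => u ∈ D ∧ w ∈ D ∧ ¬ Commute u w
  have hRD : ∀ {w : G}, Relation.ReflTransGen R a w → w ∈ D := by
    intro w hw
    induction hw with
    | refl => exact ha
    | tail _ h1 _ => exact h1.2.1
  have hinv : ∀ d ∈ D, ∀ w, Relation.ReflTransGen R a w → Relation.ReflTransGen R a (d * w * d) := by
    intro d hd w hw
    by_cases hdw : Commute d w
    · rwa [(cnj_eq_iff (h.sq hd)).2 hdw]
    · exact hw.tail ⟨hRD hw, h.cnj hd (hRD hw), h.cnj_ne (hRD hw) hd fun e => hdw e.symm⟩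
  have hall : ∀ g ∈ Subgroup.closure D, ∀ w, Relation.ReflTransGen R a w →
      Relation.ReflTransGen R a (g * w * g⁻¹) := by
    intro g hg
    induction hg using Subgroup.closure_induction_left with
    | one => intro w hw; simpa using hw
    | mul_left d hd e _ ih =>
      intro w hw
      have := hinv d hd _ (ih w hw)
      rw [mul_inv_rev, h.inv hd]
      simpa [mul_assoc] using this
    | inv_mul_cancel d hd e _ ih =>
      intro w hw
      have := hinv d hd _ (ih w hw)
      rw [mul_inv_rev, inv_inv, h.inv hd]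
      simpa [mul_assoc] using this
  have hreach : Relation.ReflTransGen R a b := by
    rw [hcl] at ha hb'
    obtain ⟨g, hg⟩ := isConj_iff.1 ((show IsConj d0 a from ha).symm.trans (show IsConj d0 b from hb'))
    have := hall g (hgen ▸ Subgroup.mem_top g) a Relation.ReflTransGen.refl
    rwa [hg] at this
  -- commuting members have a common non-neighbour
  have hcommon : ∀ w, Relation.ReflTransGen R a w → Commute a w → w ≠ a →
      ∃ y ∈ D, ¬ Commute a y ∧ ¬ Commute w y := by
    intro w hw
    induction hw with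
    | refl => intro _ h1; exact absurd rfl h1
    | @tail u w hu h1 ih =>
      intro haw _
      by_cases hau : Commute a u
      · exfalso
        by_cases hua : u = a
        · exact h1.2.2 (hua ▸ haw)
        obtain ⟨y, hy, hay, huy⟩ := ih hau hua
        exact h1.2.2 (h.twins hb h5 ha h1.1 hy h1.2.1 hau hay huy haw.symm).symm
      · exact ⟨u, h1.1, hau, fun e => h1.2.2 e.symm⟩
  obtain ⟨y, hy, hay, hby⟩ := hcommon b hreach hab (Ne.symm hne)
  exact (h.twins hb h5 hb' ha hy hc hab.symm hby hay hbc.symm).symm

end Sys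

end CfsgLib.ThreeTransp.TwoP
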