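import Mathlib
import Cfsg.Agent.Lib.ThreeTransp.TwoP.Twins

/-!
Systems in which commuting is transitive: blocks, and a pair of non-commuting members whose
product fixes no block.
-/

set_option autoImplicit false
set_option linter.style.haveILetI false

namespace CfsgLib.ThreeTransp.TwoP

open CfsgLib.Involutions CfsgLib.ThreeTransp

universe u

variable {G : Type u} [Group G] {p : ℕ} {D : Set G}

/-- Commuting is transitive on `D`. -/
def CommTrans (D : Set G) : Prop :=
  ∀ a ∈ D, ∀ b ∈ D, ∀ c ∈ D, Commute a b → Commute b c → Commute a c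

/-- The members commuting with `x`. -/
def blk (D : Set G) (x : G) : Set G := {v | v ∈ D ∧ Commute x v}

namespace Sys

variable (h : Sys p D)
include h

theorem blk_conj_ncard (g x : G) : (blk D (g * x * g⁻¹)).ncard = (blk D x).ncard := by
  have e : blk D (g * x * g⁻¹) = (fun v => g * v * g⁻¹) '' blk D x := by
    ext v
    constructor
    · rintro ⟨hv, hc⟩
      refine ⟨g⁻¹ * v * g⁻¹⁻¹, ⟨h.conj g⁻¹ v hv, ?_⟩, by group⟩
      have h1 := (commute_conj_iff g⁻¹).2 hc
      simpa [mul_assoc] using h1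
    · rintro ⟨v, ⟨hv, hc⟩, rfl⟩
      exact ⟨h.conj g v hv, (commute_conj_iff g).2 hc⟩
  rw [e, Set.ncard_image_of_injective _ (fun a b hab => mul_left_cancel (mul_right_cancel hab))]

theorem blk_ncard_eq {d0 x y : G} (hcl : D = conjugatesOf d0) (hx : x ∈ D) (hy : y ∈ D) :
    (blk D x).ncard = (blk D y).ncard := by
  rw [hcl] at hx hy
  obtain ⟨g, hg⟩ := isConj_iff.1 ((show IsConj d0 x from hx).symm.trans (show IsConj d0 y from hy))
  rw [← hg, h.blk_conj_ncard]

theorem blk_eq_iff (htr : CommTrans D) {x y : G} (hx : x ∈ D) (hy : y ∈ D) :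
    blk D x = blk D y ↔ Commute x y := by
  constructor
  · intro e
    have : y ∈ blk D x := e ▸ ⟨hy, Commute.refl y⟩
    exact this.2
  · intro hc
    ext v
    exact ⟨fun hv => ⟨hv.1, htr y hy x hx v hv.1 hc.symm hv.2⟩,
      fun hv => ⟨hv.1, htr x hx y hy v hv.1 hc hv.2⟩⟩

theorem not_commute_left (htr : CommTrans D) {x w w' : G} (hx : x ∈ D) (hw : w ∈ D) (hw' : w' ∈ D)
    (hne : ¬ Commute w w') (hc : Commute (w * x * w) (w' * x * w')) : ¬ Commute x w := by
  intro hxw
  rw [(cnj_eq_iff (h.sq hw)).2 hxw.symm] at hc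
  exact hne (htr w hw x hx w' hw' hxw.symm ((h.commute_self_cnj hx hw').1 hc))

omit h in
theorem cnj_pair_eq {w w' x : G} (hw : w * w = 1) (hw' : w' * w' = 1) :
    w * w' * x * (w * w')⁻¹ = w * (w' * x * w') * w := by
  rw [mul_inv_rev, inv_eq_of_mul_eq_one_right hw, inv_eq_of_mul_eq_one_right hw']
  group

omit h in
/-- A product of two involutions fixes the block of `x` when both send it to the same block. -/
theorem pair_fix_iff {w w' x : G} (hw : w * w = 1) (hw' : w' * w' = 1) :
    Commute x (w * w' * x * (w * w')⁻¹) ↔ Commute (w * x * w) (w' * x * w') := by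
  rw [cnj_pair_eq hw hw']
  conv_lhs => rw [← commute_cnj hw, cnj_cnj hw]

/-- The product of two non-commuting members centralises no member. -/
theorem pair_free (htr : CommTrans D) {u w w' : G} (hu : u ∈ D) (hw : w ∈ D) (hw' : w' ∈ D)
    (hne : ¬ Commute w w') : ¬ Commute u (w * w') := by
  intro hc
  have hd : Commute u (w * w' * u * (w * w')⁻¹) := by
    rw [← hc.eq, mul_inv_cancel_right]
  have he : w' * u * w' = w * u * w := by
    have h1 : u = w * (w' * u * w') * w := by
      rw [← cnj_pair_eq (h.sq hw) (h.sq hw'), ← hc.eq, mul_inv_cancel_right]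
    conv_rhs => rw [h1, cnj_cnj (h.sq hw)]
  have h1 := h.not_commute_left htr hu hw hw' hne ((pair_fix_iff (h.sq hw) (h.sq hw')).1 hd)
  by_cases h2 : Commute u w'
  · apply h1
    rw [(cnj_eq_iff (h.sq hw')).2 h2.symm] at he
    exact ((cnj_eq_iff (h.sq hw)).1 he.symm).symm
  · exact hne (h.mid_unique hu hw hw' h1 h2 he.symm ▸ Commute.refl w')

/-- Some product of two non-commuting members fixes no block. -/
theorem exists_free_pair [Finite G] (htr : CommTrans D) {d0 a b : G} (hcl : D = conjugatesOf d0)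
    (ha : a ∈ D) (hb : b ∈ D) (hab : ¬ Commute a b) :
    ∃ w ∈ D, ∃ w' ∈ D, ¬ Commute w w' ∧ ∀ x ∈ D, ¬ Commute (w * x * w) (w' * x * w') := by
  classical
  haveI : Fintype G := Fintype.ofFinite G
  by_contra hcon
  push_neg at hcon
  set e := (blk D a).ncard with he
  have hepos : 0 < e := (Set.ncard_pos (Set.toFinite _)).2 ⟨a, ha, Commute.refl a⟩
  set P : Finset (G × G) := (Finset.univ ×ˢ Finset.univ).filter
    (fun q => q.1 ∈ D ∧ q.2 ∈ D ∧ ¬ Commute q.1 q.2) with hP
  set T : Finset (G × G × G) := Finset.univ.filter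
    (fun q => q.1 ∈ D ∧ (q.2.1 ∈ D ∧ q.2.2 ∈ D ∧ ¬ Commute q.2.1 q.2.2) ∧
      Commute (q.2.1 * q.1 * q.2.1) (q.2.2 * q.1 * q.2.2)) with hT
  have hPpos : 0 < P.card := Finset.card_pos.2 ⟨(a, b), by simp [hP, ha, hb, hab]⟩
  -- at least one whole block for each pair
  have hlow : P.card * e ≤ T.card := by
    rw [Finset.card_eq_sum_card_fiberwise (f := fun q : G × G × G => q.2) (t := P)
      (fun q hq => by
        simp only [hT, Finset.mem_coe, Finset.mem_filter] at hq
        simp [hP, hq.2.2.1])]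
    rw [← smul_eq_mul]
    refine Finset.card_nsmul_le_sum P _ e fun q hq => ?_
    simp only [hP, Finset.mem_filter] at hq
    obtain ⟨-, hw, hw', hne⟩ := hq
    obtain ⟨x, hx, hfix⟩ := hcon q.1 hw q.2 hw' hne
    rw [he, h.blk_ncard_eq hcl ha hx, ← Set.ncard_coe_finset]
    refine Set.ncard_le_ncard_of_injOn (fun v => (v, q)) ?_ (fun v _ v' _ hvv => congrArg Prod.fst hvv)
      (Set.toFinite _)
    rintro v ⟨hv, hxv⟩
    simp only [Finset.coe_filter, hT, Finset.mem_filter, Finset.mem_univ, true_and, Set.mem_setOf_eq,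
      and_true]
    refine ⟨hv, ⟨hw, hw', hne⟩, ?_⟩
    have h1 : Commute (q.1 * v * q.1) (q.1 * x * q.1) := (commute_cnj (h.sq hw)).2 hxv.symm
    have h2 : Commute (q.2 * x * q.2) (q.2 * v * q.2) := (commute_cnj (h.sq hw')).2 hxv
    exact htr _ (h.cnj hw hv) _ (h.cnj hw hx) _ (h.cnj hw' hv) h1
      (htr _ (h.cnj hw hx) _ (h.cnj hw' hx) _ (h.cnj hw' hv) hfix h2)
  -- at most `e - 1` second members for each first one
  have hup : T.card ≤ P.card * (e - 1) := by
    refine (Finset.card_le_mul_card_image_of_maps_to (f := fun q : G × G × G => (q.1, q.2.1))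
      (t := P) ?_ (e - 1) ?_).trans (le_of_eq (mul_comm _ _))
    · intro q hq
      simp only [hT, Finset.mem_filter] at hq
      obtain ⟨-, hx, ⟨hw, hw', hne⟩, hc⟩ := hq
      simp [hP, hx, hw, h.not_commute_left htr hx hw hw' hne hc]
    · intro q hq
      simp only [hP, Finset.mem_filter] at hq
      obtain ⟨-, hx, hw, hxw⟩ := hq
      have hmid : q.2 * q.1 * q.2 ∈ blk D (q.2 * q.1 * q.2) := ⟨h.cnj hw hx, Commute.refl _⟩
      rw [he, h.blk_ncard_eq hcl ha (h.cnj hw hx),
        ← Set.ncard_sdiff_singleton_of_mem hmid, ← Set.ncard_coe_finset]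
      refine Set.ncard_le_ncard_of_injOn (fun r : G × G × G => r.2.2 * r.1 * r.2.2) ?_ ?_
        (Set.toFinite _)
      · rintro r hr
        simp only [Finset.coe_filter, hT, Finset.mem_filter, Finset.mem_univ, true_and,
          Set.mem_setOf_eq] at hr
        obtain ⟨⟨hx', ⟨hw1, hw2, hne⟩, hc⟩, heq⟩ := hr
        subst heq
        dsimp only at *
        refine ⟨⟨h.cnj hw2 hx', hc⟩, fun e2 => hne ?_⟩
        have hn1 := h.not_commute_left htr hx' hw1 hw2 hne hc
        have hn2 := h.not_commute_left htr hx' hw2 hw1 (fun hh => hne hh.symm) hc.symm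
        rw [h.mid_unique hx' hw2 hw1 hn2 hn1 e2]
      · rintro r hr r' hr' hrr
        simp only [Finset.coe_filter, hT, Finset.mem_filter, Finset.mem_univ, true_and,
          Set.mem_setOf_eq] at hr hr'
        obtain ⟨⟨hx', ⟨hw1, hw2, hne⟩, hc⟩, heq⟩ := hr
        obtain ⟨⟨-, ⟨hv1, hv2, hne'⟩, hc'⟩, heq'⟩ := hr'
        obtain ⟨e1, e1'⟩ : r.1 = r'.1 ∧ r.2.1 = r'.2.1 := Prod.ext_iff.1 (heq.trans heq'.symm)
        dsimp only at hrr
        rw [← e1] at hrr hc'
        rw [← e1'] at hne' hc'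
        have h3 := h.mid_unique hx' hw2 hv2
          (h.not_commute_left htr hx' hw2 hw1 (fun hh => hne hh.symm) hc.symm)
          (h.not_commute_left htr hx' hv2 hw1 (fun hh => hne' hh.symm) hc'.symm) hrr
        exact Prod.ext e1 (Prod.ext e1' h3)
  have h3 := hlow.trans hup
  have h4 := Nat.le_of_mul_le_mul_left h3 hPpos
  omega

end Sys

end CfsgLib.ThreeTransp.TwoP
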