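import Mathlib
import Cfsg.Agent.Lib.ThreeTransp.TwoP.Blocks
import Cfsg.Agent.Lib.FTCons.PElementInvolutionClass

/-!
Sets of pairwise non-commuting members closed under mutual conjugation, and the members exchanging
two blocks.
-/

set_option autoImplicit false
set_option linter.style.haveILetI false

namespace CfsgLib.ThreeTransp.TwoP

open CfsgLib.Involutions CfsgLib.ThreeTransp
open scoped commutatorElement

universe u

variable {G : Type u} [Group G] {p : ℕ} {D : Set G}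

/-- The members sending the block of `x` to the block of `y`. -/
def swp (D : Set G) (x y : G) : Set G := {w | w ∈ D ∧ ¬ Commute x w ∧ Commute y (w * x * w)}

/-- The elements fixing the block of `x`. -/
def fixes (D : Set G) (x g : G) : Prop := x ∈ D ∧ Commute x (g * x * g⁻¹)

theorem pow_succ_two_pow {p k t : ℕ} (hp : p.Prime) (hodd : p ≠ 2) (hk : 0 < k)
    (he : p ^ k + 1 = 2 ^ t) : k = 1 := by
  rcases Nat.even_or_odd k with ⟨m, rfl⟩ | ⟨m, rfl⟩
  · exfalso
    obtain ⟨j, hj⟩ := hp.odd_of_ne_two hodd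
    have h1 : 3 ≤ p ^ (m + m) := le_trans (by have := hp.two_le; omega) (Nat.le_self_pow hk.ne' p)
    have h2 : p ^ (m + m) % 4 = 1 := by
      rw [← two_mul, pow_mul, Nat.pow_mod]
      have : p ^ 2 % 4 = 1 := by
        rw [Nat.pow_mod]
        have : p % 4 = 1 ∨ p % 4 = 3 := by omega
        rcases this with e | e <;> rw [e]
      rw [this, one_pow]; rfl
    rcases t with _ | _ | t <;> simp only [pow_succ, pow_zero] at he <;> omega
  · by_contra hne
    have hm : 0 < m := by omega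
    have hdvd : p + 1 ∣ 2 ^ t := by
      rw [← he]
      exact Odd.nat_add_dvd_pow_add_pow p 1 ⟨m, rfl⟩ |>.trans (by rw [one_pow])
    obtain ⟨i, hit, hi⟩ := (Nat.dvd_prime_pow Nat.prime_two).1 hdvd
    have hlt : p + 1 < p ^ (2 * m + 1) + 1 := by
      have h3 : p ^ 1 < p ^ (2 * m + 1) := Nat.pow_lt_pow_right hp.one_lt (by omega)
      rw [pow_one] at h3; omega
    have hi1 : i < t := by
      rw [← Nat.pow_lt_pow_iff_right (a := 2) (by norm_num), ← hi, ← he]; exact hlt
    have hi0 : 1 ≤ i := by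
      rcases i with _ | i
      · have := hp.two_le; simp at hi; omega
      · omega
    -- work modulo `2 ^ (i + 1)`
    have hp' : (p : ZMod (2 ^ (i + 1))) = (2 : ZMod (2 ^ (i + 1))) ^ i - 1 := by
      have h4 : ((p + 1 : ℕ) : ZMod (2 ^ (i + 1))) = ((2 ^ i : ℕ) : ZMod (2 ^ (i + 1))) := by rw [hi]
      push_cast at h4
      rw [← h4]; ring
    have hz : (2 : ZMod (2 ^ (i + 1))) ^ (i + 1) = 0 := by
      have h5 := ZMod.natCast_self (2 ^ (i + 1))
      push_cast at h5; exact h5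
    have hsq : (p : ZMod (2 ^ (i + 1))) ^ 2 = 1 := by
      rw [hp']
      obtain ⟨j, rfl⟩ : ∃ j, i = j + 1 := ⟨i - 1, by omega⟩
      calc ((2 : ZMod (2 ^ (j + 1 + 1))) ^ (j + 1) - 1) ^ 2
          = 2 ^ (j + 1 + 1) * 2 ^ j - 2 ^ (j + 1 + 1) + 1 := by ring
        _ = 1 := by rw [hz]; ring
    have h6 : ((p ^ (2 * m + 1) + 1 : ℕ) : ZMod (2 ^ (i + 1))) = 0 := by
      rw [he, ZMod.natCast_eq_zero_iff]
      exact pow_dvd_pow 2 hi1
    push_cast at h6
    rw [pow_succ (p : ZMod (2 ^ (i + 1))) (2 * m), pow_mul, hsq, one_pow, one_mul] at h6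
    have h7 : ((2 ^ i : ℕ) : ZMod (2 ^ (i + 1))) = 0 := by
      rw [← hi]; push_cast; exact h6
    rw [ZMod.natCast_eq_zero_iff, Nat.pow_dvd_pow_iff_le_right (by norm_num)] at h7
    omega

namespace Sys

variable (h : Sys p D)
include h

/-- A closed set of pairwise non-commuting members has prime power size. -/
theorem closed_card [Finite G] {S : Set G} (hS : S ⊆ D) (hne : S.Nonempty)
    (hnc : ∀ w ∈ S, ∀ v ∈ S, w ≠ v → ¬ Commute w v) (hcl : ∀ w ∈ S, ∀ v ∈ S, w * v * w ∈ S) :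
    ∃ k, S.ncard = p ^ k := by
  haveI : Fact p.Prime := ⟨h.prime⟩
  obtain ⟨w0, hw0⟩ := hne
  set K := Subgroup.closure S with hK
  set DK : Set ↥K := {d | (d : G) ∈ S} with hDK
  set d0 : ↥K := ⟨w0, Subgroup.subset_closure hw0⟩
  have hord : ∀ d ∈ DK, orderOf d = 2 := fun d hd => by
    rw [← Subgroup.orderOf_coe]; exact h.invol _ (hS hd)
  have hgen : Subgroup.closure DK = ⊤ := Subgroup.closure_closure_coe_preimage
  have hmove : ∀ g : ↥K, ∀ d ∈ DK, g * d * g⁻¹ ∈ DK := by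
    intro g
    induction (hgen ▸ Subgroup.mem_top g : g ∈ Subgroup.closure DK) using
        Subgroup.closure_induction_left with
    | one => intro d hd; simpa using hd
    | mul_left a ha b _ ih =>
      intro d hd
      have h1 := hcl _ ha _ (ih d hd)
      show ((a * b * d * (a * b)⁻¹ : ↥K) : G) ∈ S
      rw [mul_inv_rev]
      push_cast
      rw [h.inv (hS ha)]
      simpa [mul_assoc] using h1
    | inv_mul_cancel a ha b _ ih =>
      intro d hd
      have h1 := hcl _ ha _ (ih d hd)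
      show ((a⁻¹ * b * d * (a⁻¹ * b)⁻¹ : ↥K) : G) ∈ S
      rw [mul_inv_rev, inv_inv]
      push_cast
      rw [h.inv (hS ha)]
      simpa [mul_assoc] using h1
  have hordp : ∀ d ∈ DK, ∀ e ∈ DK, d ≠ e → orderOf (d * e) = p := fun d hd e he hde => by
    rw [← Subgroup.orderOf_coe]
    exact h.ord (hS hd) (hS he) (hnc _ hd _ he fun e' => hde (Subtype.ext e'))
  have hconjDK : DK = conjugatesOf d0 := by
    ext d
    constructor
    · intro hd
      by_cases hdd : d0 = d
      · exact hdd ▸ mem_conjugatesOf_self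
      · exact isConj_of_odd_prod (hord _ hw0) (hord _ hd)
          (by rw [hordp _ hw0 _ hd hdd]; exact h.prime.odd_of_ne_two h.ne_two)
    · intro hd
      obtain ⟨g, rfl⟩ := isConj_iff.1 hd
      exact hmove g d0 hw0
  have hcomm := CfsgLib.FTCons.commutator_le_pCore_of_involution_class (p := p) h.ne_two hord
    ⟨d0, hw0, hconjDK⟩ hgen (fun d hd e he hde => ⟨1, by rw [hordp d hd e he hde, pow_one]⟩)
  set P := Cfsg.pCore p ↥K with hP
  letI : MulAction ↥P ↥K := MulAction.compHom ↥K ((MulAut.conj).comp P.subtype)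
  have horb : MulAction.orbit ↥P d0 = DK := by
    ext d
    constructor
    · rintro ⟨q, rfl⟩
      exact hmove (q : ↥K) d0 hw0
    · intro hd
      by_cases hdd : d0 = d
      · exact hdd ▸ MulAction.mem_orbit_self d0
      · have ho := hordp _ hw0 _ hd hdd
        obtain ⟨k, hk⟩ := exists_zpow_conj_of_odd (hord _ hw0) (hord _ hd)
          (by rw [ho]; exact h.prime.odd_of_ne_two h.ne_two)
        have hm : (d0 * d) ^ 2 ∈ P := by
          refine hcomm ?_
          have e : (d0 * d) ^ 2 = ⁅d0, d⁆ := by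
            rw [commutatorElement_def, invol_inv (hord _ hw0), invol_inv (hord _ hd), pow_two, ← mul_assoc]
          rw [e]
          exact Subgroup.commutator_mem_commutator (Subgroup.mem_top _) (Subgroup.mem_top _)
        have hm' : d0 * d ∈ P := by
          rw [(h.restrict K).eq_pow_sq (a := d0 * d) (by rw [← ho]; exact pow_orderOf_eq_one _)]
          exact pow_mem hm _
        exact ⟨⟨(d0 * d) ^ k, zpow_mem hm' k⟩, hk⟩
  obtain ⟨k, hk⟩ := IsPGroup.card_orbit (CfsgLib.Base.isPGroup_pCore p ↥K) d0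
  refine ⟨k, ?_⟩
  rw [← hk, horb, Nat.card_coe_set_eq, hDK]
  have : S = Subtype.val '' {d : ↥K | (d : G) ∈ S} := by
    ext v
    exact ⟨fun hv => ⟨⟨v, Subgroup.subset_closure hv⟩, hv, rfl⟩, fun ⟨_, hv, e⟩ => e ▸ hv⟩
  conv_lhs => rw [this, Set.ncard_image_of_injective _ Subtype.val_injective]

theorem swp_ncard [Finite G] (htr : CommTrans D) {x y : G} (hx : x ∈ D) (hy : y ∈ D)
    (hn : ¬ Commute x y) : (swp D x y).ncard = (blk D y).ncard := by
  rw [← Set.InjOn.ncard_image (f := fun w => w * x * w) (s := swp D x y)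
    fun w hw v hv e => h.mid_unique hx hw.1 hv.1 hw.2.1 hv.2.1 e]
  congr 1
  ext v
  constructor
  · rintro ⟨w, hw, rfl⟩
    exact ⟨h.cnj hw.1 hx, hw.2.2⟩
  · rintro ⟨hv, hc⟩
    obtain ⟨w, hw, hxw, rfl⟩ := h.mid_exists hx hv fun e => hn (htr x hx v hv y hy e hc.symm)
    exact ⟨w, ⟨hw, hxw, hc⟩, rfl⟩

theorem swp_symm {x y w : G} (hy : y ∈ D) (hn : ¬ Commute x y) (hw : w ∈ swp D x y) :
    w ∈ swp D y x := by
  have h1 : Commute x (w * y * w) := by
    have := (commute_cnj (h.sq hw.1)).2 hw.2.2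
    rw [cnj_cnj (h.sq hw.1)] at this
    exact this.symm
  refine ⟨hw.1, fun hc => hn ?_, h1⟩
  rwa [(cnj_eq_iff (h.sq hw.1)).2 hc.symm] at h1

theorem swp_closed (htr : CommTrans D) {x y w v : G} (hx : x ∈ D) (hy : y ∈ D) (hn : ¬ Commute x y)
    (hw : w ∈ swp D x y) (hv : v ∈ swp D x y) : w * v * w ∈ swp D x y := by
  have hD := h.cnj hw.1 hv.1
  have e : w * v * w * x * (w * v * w) = w * (v * (w * x * w) * v) * w := by group
  have h1 : Commute (v * (w * x * w) * v) x := by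
    have h2 : Commute (v * (w * x * w) * v) (v * y * v) := (commute_cnj (h.sq hv.1)).2 hw.2.2.symm
    exact htr _ (h.cnj hv.1 (h.cnj hw.1 hx)) _ (h.cnj hv.1 hy) _ hx h2
      (h.swp_symm hy hn hv).2.2.symm
  have h3 : Commute y (w * v * w * x * (w * v * w)) := by
    rw [e]
    exact htr _ hy _ (h.cnj hw.1 hx) _ (h.cnj hw.1 (h.cnj hv.1 (h.cnj hw.1 hx))) hw.2.2
      ((commute_cnj (h.sq hw.1)).2 h1.symm)
  refine ⟨hD, fun hc => hn ?_, h3⟩
  rw [(cnj_eq_iff (h.sq hD)).2 hc.symm] at h3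
  exact h3.symm

theorem swp_nc (htr : CommTrans D) (hprod : ∀ a ∈ D, ∀ b ∈ D, Commute a b → a ≠ b → a * b ∈ D)
    {x y w v : G} (hx : x ∈ D) (hy : y ∈ D) (hw : w ∈ swp D x y) (hv : v ∈ swp D x y)
    (hne : w ≠ v) : ¬ Commute w v := by
  intro hc
  have hr := hprod w hw.1 v hv.1 hc hne
  have h1 : Commute (w * x * w) (v * x * v) :=
    htr _ (h.cnj hw.1 hx) _ hy _ (h.cnj hv.1 hx) hw.2.2.symm hv.2.2
  have h2 := (pair_fix_iff (h.sq hw.1) (h.sq hv.1)).2 h1
  rw [h.inv hr] at h2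
  have h3 := (h.commute_self_cnj hx hr).1 h2
  exact hw.2.1 (htr x hx _ hr w hw.1 h3 ((Commute.refl w).mul_left hc.symm))

/-- If the set has `p` members it is a line. -/
theorem line_eq [Finite G] {S : Set G} (hS : S ⊆ D)
    (hnc : ∀ w ∈ S, ∀ v ∈ S, w ≠ v → ¬ Commute w v) (hcl : ∀ w ∈ S, ∀ v ∈ S, w * v * w ∈ S)
    (hcard : S.ncard = p) {w0 w1 : G} (h0 : w0 ∈ S) (h1 : w1 ∈ S) (hne : w0 ≠ w1) :
    ∀ w ∈ S, ∃ j : ℕ, w = w0 * (w0 * w1) ^ j := by
  set a := w0 * w1 with ha
  have h00 := h.sq (hS h0)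
  have ha1 : w0 * a = w1 := by rw [ha, ← mul_assoc, h00, one_mul]
  have hflip : ∀ n : ℕ, w0 * a ^ n * w0 = a⁻¹ ^ n := by
    intro n
    induction n with
    | zero => simpa using h00
    | succ n ih =>
      have e : w0 * a * w0 = a⁻¹ := by
        rw [ha, mul_inv_rev, h.inv (hS h0), h.inv (hS h1), ← mul_assoc, h00, one_mul]
      rw [pow_succ, pow_succ, cnj_mul h00, ih, e]
  have hmem : ∀ n : ℕ, w0 * a ^ n ∈ S ∧ w0 * a ^ (n + 1) ∈ S := by
    intro n
    induction n with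
    | zero => exact ⟨by simpa using h0, by simpa [ha1] using h1⟩
    | succ n ih =>
      refine ⟨ih.2, ?_⟩
      have := hcl _ ih.2 _ ih.1
      have e : w0 * a ^ (n + 1) * (w0 * a ^ n) * (w0 * a ^ (n + 1)) = w0 * a ^ (n + 1 + 1) := by
        calc w0 * a ^ (n + 1) * (w0 * a ^ n) * (w0 * a ^ (n + 1))
            = w0 * a ^ (n + 1) * (w0 * a ^ n * w0) * a ^ (n + 1) := by group
          _ = w0 * a ^ (n + 1 + 1) := by rw [hflip, inv_pow, pow_succ a (n + 1), pow_succ a n]; group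
      rwa [e] at this
  intro w hw
  have hsub : (fun j => w0 * a ^ j) '' Set.Iio p ⊆ S := by
    rintro _ ⟨j, -, rfl⟩; exact (hmem j).1
  have hinj : Set.InjOn (fun j => w0 * a ^ j) (Set.Iio p) := by
    intro i hi j hj e
    rw [← h.ord (hS h0) (hS h1) (hnc _ h0 _ h1 hne)] at hi hj
    exact pow_injOn_Iio_orderOf hi hj (mul_left_cancel e)
  have heq : (fun j => w0 * a ^ j) '' Set.Iio p = S :=
    Set.eq_of_subset_of_ncard_le hsub
      (by rw [hinj.ncard_image, Set.ncard_Iio_nat, hcard]) (Set.toFinite _)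
  rw [← heq] at hw
  obtain ⟨j, -, rfl⟩ := hw
  exact ⟨j, rfl⟩

end Sys

end CfsgLib.ThreeTransp.TwoP
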