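import Mathlib
import Cfsg.Agent.Lib.ThreeTransp.TwoP.Blocks

/-!
The stabiliser of a block and the kernel of the action on blocks.
-/

set_option autoImplicit false

namespace CfsgLib.ThreeTransp.TwoP

universe u

variable {G : Type u} [Group G] {p : ℕ} {D : Set G}

namespace Sys

variable (h : Sys p D)

/-- The stabiliser of the block of `x`. -/
def stab (htr : CommTrans D) {x : G} (hx : x ∈ D) : Subgroup G where
  carrier := {g | Commute x (g * x * g⁻¹)}
  one_mem' := by simp
  mul_mem' {g g'} hg hg' := by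
    have h1 := (CfsgLib.ThreeTransp.commute_conj_iff g).2 (show Commute x (g' * x * g'⁻¹) from hg')
    have h2 := htr x hx _ (h.conj g x hx) _ (h.conj g _ (h.conj g' x hx)) hg h1
    show Commute x (g * g' * x * (g * g')⁻¹)
    simpa [mul_assoc] using h2
  inv_mem' {g} hg := by
    have h1 := (CfsgLib.ThreeTransp.commute_conj_iff g⁻¹).2 (show Commute x (g * x * g⁻¹) from hg)
    show Commute x (g⁻¹ * x * g⁻¹⁻¹)
    simpa [mul_assoc] using h1.symm

/-- The elements fixing every block. -/
def bker (htr : CommTrans D) : Subgroup G where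
  carrier := {g | ∀ x ∈ D, Commute x (g * x * g⁻¹)}
  one_mem' := fun x _ => by simp
  mul_mem' {g g'} hg hg' x hx := (h.stab htr hx).mul_mem (hg x hx) (hg' x hx)
  inv_mem' {g} hg x hx := (h.stab htr hx).inv_mem (hg x hx)

theorem bker_normal (htr : CommTrans D) : (h.bker htr).Normal := by
  refine ⟨fun k hk g x hx => ?_⟩
  have h1 := (CfsgLib.ThreeTransp.commute_conj_iff g).2 (hk _ (h.conj g⁻¹ x hx))
  simpa [mul_assoc] using h1

include h in
theorem stab_rep (htr : CommTrans D) {x y g : G} (hx : x ∈ D) (hy : y ∈ D) (hxy : Commute x y)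
    (hg : Commute x (g * x * g⁻¹)) : Commute y (g * y * g⁻¹) :=
  htr y hy x hx _ (h.conj g y hy) hxy.symm
    (htr x hx _ (h.conj g x hx) _ (h.conj g y hy) hg
      ((CfsgLib.ThreeTransp.commute_conj_iff g).2 hxy))

end Sys

end CfsgLib.ThreeTransp.TwoP
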