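import Mathlib
import Cfsg.Agent.Lib.ThreeTransp.TwoP.Swap
import Cfsg.Agent.Lib.ThreeTransp.TwoP.Ker

/-!
For `p ≥ 5` no member commutes with none of three commuting members with product `1`.
-/

set_option autoImplicit false
set_option linter.style.haveILetI false

namespace CfsgLib.ThreeTransp.TwoP

open CfsgLib.Involutions CfsgLib.ThreeTransp

universe u

variable {G : Type u} [Group G] {p : ℕ} {D : Set G}

theorem eq_zpow_of_mul_eq {a : G} {n : ℕ} (ha : a ^ p = 1) : (a ^ n) ^ p = 1 := by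
  rw [← pow_mul, mul_comm, pow_mul, ha, one_pow]

/-- An element of order dividing `p` permutes the blocks; the fixed ones are congruent to all. -/
theorem blocks_modEq [Finite G] (h : Sys p D) (htr : CommTrans D) {a : G} (ha : a ^ p = 1) :
    (blk D '' D).ncard ≡ (blk D '' {x | fixes D x a}).ncard [MOD p] := by
  classical
  haveI : Fact p.Prime := ⟨h.prime⟩
  have himg : ∀ x : G, x ∈ D → (fun v => a * v * a⁻¹) '' blk D x = blk D (a * x * a⁻¹) := by
    intro x hx
    ext v
    constructor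
    · rintro ⟨v, ⟨hv, hc⟩, rfl⟩
      exact ⟨h.conj a v hv, (commute_conj_iff a).2 hc⟩
    · rintro ⟨hv, hc⟩
      refine ⟨a⁻¹ * v * a⁻¹⁻¹, ⟨h.conj a⁻¹ v hv, ?_⟩, by group⟩
      have h1 := (commute_conj_iff a⁻¹).2 hc
      simpa [mul_assoc] using h1
  let Ω := ↥(blk D '' D)
  haveI : Fintype Ω := Fintype.ofFinite Ω
  let f : Function.End Ω := fun B => ⟨(fun v => a * v * a⁻¹) '' (B : Set G), by
    obtain ⟨x, hx, hB⟩ := B.2
    exact ⟨a * x * a⁻¹, h.conj a x hx, by rw [← himg x hx, hB]⟩⟩
  have hfn : ∀ (n : ℕ) (B : Ω), ((f ^ n) B : Set G) = (fun v => a ^ n * v * (a ^ n)⁻¹) '' (B : Set G) := by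
    intro n
    induction n with
    | zero => intro B; simp; rfl
    | succ n ih =>
      intro B
      rw [pow_succ']
      show (fun v => a * v * a⁻¹) '' (((f ^ n) B : Ω) : Set G) = _
      rw [ih, Set.image_image]
      refine Set.image_congr fun v _ => ?_
      rw [pow_succ' a n, mul_inv_rev]; group
  have hf : f ^ p ^ 1 = 1 := by
    rw [pow_one]
    funext B
    apply Subtype.ext
    rw [hfn, ha]
    simp; rfl
  have hmod := Equiv.Perm.card_fixedPoints_modEq hf
  rw [← Nat.card_eq_fintype_card, ← Nat.card_eq_fintype_card] at hmod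
  have e1 : Nat.card Ω = (blk D '' D).ncard := Nat.card_coe_set_eq _
  have e2 : Nat.card f.fixedPoints = (blk D '' {x | fixes D x a}).ncard := by
    rw [Nat.card_coe_set_eq]
    have : blk D '' {x | fixes D x a} = Subtype.val '' (Function.fixedPoints f) := by
      ext B
      constructor
      · rintro ⟨x, ⟨hx, hc⟩, rfl⟩
        refine ⟨⟨blk D x, x, hx, rfl⟩, Subtype.ext ?_, rfl⟩
        show (fun v => a * v * a⁻¹) '' blk D x = blk D x
        rw [himg x hx]
        exact (h.blk_eq_iff htr (h.conj a x hx) hx).2 hc.symm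
      · rintro ⟨⟨_, x, hx, rfl⟩, hfix, rfl⟩
        refine ⟨x, ⟨hx, ?_⟩, rfl⟩
        have h1 : (fun v => a * v * a⁻¹) '' blk D x = blk D x := congrArg Subtype.val hfix
        rw [himg x hx] at h1
        exact ((h.blk_eq_iff htr (h.conj a x hx) hx).1 h1).symm
    rw [this, Set.ncard_image_of_injective _ Subtype.val_injective]
  rwa [e1, e2] at hmod

theorem eq_one_of_pow_card {p i : ℕ} [Fact p.Prime] {b : G} (hb : orderOf b = p)
    (h : b ^ (i ^ p) = b) : b ^ i = b := by
  conv_rhs at h => rw [← pow_one b]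
  rw [pow_eq_pow_iff_modEq, hb, ← ZMod.natCast_eq_natCast_iff, Nat.cast_pow, ZMod.pow_card] at h
  conv_rhs => rw [← pow_one b]
  rw [pow_eq_pow_iff_modEq, hb, ← ZMod.natCast_eq_natCast_iff, h]

/-- For `p ≥ 5` there is no such configuration. -/
theorem no_tri_step (h : Sys p D) [Finite G] (hb : NoTriBelow.{u} p (Nat.card G)) (h5 : 5 ≤ p)
    {x z y d0 : G} (hcl : D = conjugatesOf d0) (hgen : Subgroup.closure D = ⊤) (hx : x ∈ D)
    (hz : z ∈ D) (hy : y ∈ D) (hr : x * z ∈ D) (hxz : Commute x z) (hxy : ¬ Commute x y)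
    (hzy : ¬ Commute z y) (hry : ¬ Commute (x * z) y) : False := by
  classical
  haveI : Fact p.Prime := ⟨h.prime⟩
  have hd0 : d0 ∈ D := hcl ▸ mem_conjugatesOf_self
  have htr : CommTrans D := fun a ha b hb' c hc hab hbc =>
    h.trans_of_connected hb h5 hd0 hcl hgen ha hb' hc hab hbc
  have hne : x ≠ z := fun e => h.ne_one hr (by rw [e, h.sq hz])
  -- the kernel on blocks is trivial
  have hK : h.bker htr = ⊥ := by
    haveI := h.bker_normal htr
    by_contra hK
    have hnotK : ∀ {d : G}, d ∈ D → ¬ Commute d y → d ∉ h.bker htr ∧ d * y ∉ h.bker htr := by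
      intro d hd hdn
      refine ⟨fun hm => ?_, fun hm => ?_⟩
      · have h1 := hm y hy
        rw [h.inv hd] at h1
        exact hdn ((h.commute_self_cnj hy hd).1 h1).symm
      · have h1 := hm d hd
        rw [Sys.cnj_pair_eq (h.sq hd) (h.sq hy)] at h1
        have h2 := (commute_cnj (h.sq hd)).2 h1
        rw [cnj_cnj (h.sq hd)] at h2
        rw [show d * d * d = d by rw [h.sq hd, one_mul]] at h2
        exact hdn ((h.commute_self_cnj hd hy).1 h2)
    refine h.quot_false hb le_rfl hK hx hz hy hr ?_ hxz (hnotK hx hxy).1 (hnotK hz hzy).1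
      (hnotK hr hry).1 hxy hzy hry (hnotK hx hxy).2 (hnotK hz hzy).2 (hnotK hr hry).2
    rw [h.sq hr]; exact one_mem _
  -- commuting members multiply to members
  have hprod : ∀ a ∈ D, ∀ b ∈ D, Commute a b → a ≠ b → a * b ∈ D := by
    intro a ha b hb' hab hne'
    by_contra hn
    have hmem : a * b ∈ h.bker htr := by
      intro d hd
      rw [Sys.cnj_pair_eq (h.sq ha) (h.sq hb')]
      by_cases hbd : Commute b d
      · rw [(cnj_eq_iff (h.sq hb')).2 hbd,
          (cnj_eq_iff (h.sq ha)).2 (htr a ha b hb' d hd hab hbd)]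
      · have c := (h.commute_or_prod_mem hb ha hb' hd hne' hab
          (fun e => hbd (htr b hb' a ha d hd hab.symm e)) hbd).resolve_right hn
        have h2 := (commute_cnj (h.sq ha)).2 c
        rwa [cnj_cnj (h.sq ha)] at h2
    rw [hK, Subgroup.mem_bot] at hmem
    exact hne' (by rw [eq_inv_of_mul_eq_one_left hmem, h.inv hb'])
  -- blocks with `1` are 2-groups
  have hblk2 : ∃ t : ℕ, (blk D x).ncard + 1 = 2 ^ t := by
    let V : Subgroup G :=
      { carrier := insert 1 (blk D x)
        one_mem' := Set.mem_insert _ _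
        mul_mem' := by
          rintro g g' (rfl | ⟨hg, hgc⟩) hg'
          · rwa [one_mul]
          rcases hg' with rfl | ⟨hg', hgc'⟩
          · rw [mul_one]; exact Or.inr ⟨hg, hgc⟩
          by_cases e : g = g'
          · subst e; exact Or.inl (h.sq hg)
          · exact Or.inr ⟨hprod g hg g' hg' (htr g hg x hx g' hg' hgc.symm hgc') e, hgc.mul_right hgc'⟩
        inv_mem' := by
          rintro g (rfl | ⟨hg, hgc⟩)
          · rw [inv_one]; exact Or.inl rfl
          · rw [h.inv hg]; exact Or.inr ⟨hg, hgc⟩ }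
    haveI : Fact (Nat.Prime 2) := ⟨Nat.prime_two⟩
    have hV : IsPGroup 2 V := by
      rintro ⟨g, hg⟩
      refine ⟨1, Subtype.ext ?_⟩
      rcases hg with rfl | ⟨hg, -⟩
      · simp
      · simp [pow_two, h.sq hg]
    obtain ⟨t, ht⟩ := IsPGroup.iff_card.1 hV
    refine ⟨t, ?_⟩
    rw [← ht, ← Set.ncard_insert_of_notMem (a := (1 : G)) (fun hm => h.ne_one hm.1 rfl) (Set.toFinite _)]
    exact (Nat.card_coe_set_eq _).symm
  -- every block has `p` members
  have hswp : ∀ {u v : G}, u ∈ D → v ∈ D → ¬ Commute u v →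
      (swp D u v).ncard = (blk D v).ncard ∧
      (∀ w ∈ swp D u v, ∀ w' ∈ swp D u v, w ≠ w' → ¬ Commute w w') ∧
      (∀ w ∈ swp D u v, ∀ w' ∈ swp D u v, w * w' * w ∈ swp D u v) := fun {u v} hu hv huv =>
    ⟨h.swp_ncard htr hu hv huv, fun w hw w' hw' => h.swp_nc htr hprod hu hv hw hw',
      fun w hw w' hw' => h.swp_closed htr hu hv huv hw hw'⟩
  have hblk : ∀ {v : G}, v ∈ D → (blk D v).ncard = p := by
    intro v hv
    rw [h.blk_ncard_eq hcl hv hx]
    obtain ⟨hc, hnc, hclo⟩ := hswp hy hx (fun e => hxy e.symm)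
    have h2 : 1 < (blk D x).ncard :=
      (Set.one_lt_ncard (Set.toFinite _)).2 ⟨x, ⟨hx, Commute.refl x⟩, z, ⟨hz, hxz⟩, hne⟩
    obtain ⟨k, hk⟩ := h.closed_card (S := swp D y x) (fun w hw => hw.1)
      (Set.nonempty_of_ncard_ne_zero (by omega)) hnc hclo
    obtain ⟨t, ht⟩ := hblk2
    rw [hc] at hk
    rw [hk] at h2 ht ⊢
    have hk0 : 0 < k := by
      rcases k with _ | k
      · simp at h2
      · omega
    rw [pow_succ_two_pow h.prime h.ne_two hk0 ht, pow_one]
  -- lines and normalisers of lines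
  have hline : ∀ {u v : G}, u ∈ D → v ∈ D → ¬ Commute u v → ∀ {w0 w1 : G}, w0 ∈ swp D u v →
      w1 ∈ swp D u v → w0 ≠ w1 → ∀ w ∈ swp D u v, ∃ j : ℕ, w = w0 * (w0 * w1) ^ j := by
    intro u v hu hv huv w0 w1 h0 h1 hn
    obtain ⟨hc, hnc, hclo⟩ := hswp hu hv huv
    exact h.line_eq (fun w hw => hw.1) hnc hclo (by rw [hc, hblk hv]) h0 h1 hn
  have hconjswp : ∀ {u v g : G}, u ∈ D → v ∈ D → Commute u (g * u * g⁻¹) →
      Commute v (g * v * g⁻¹) → ∀ w ∈ swp D u v, g * w * g⁻¹ ∈ swp D u v := by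
    intro u v g hu hv gu gv w hw
    have hwD := h.conj g w hw.1
    have e : g * w * g⁻¹ * (g * u * g⁻¹) * (g * w * g⁻¹) = g * (w * u * w) * g⁻¹ := by group
    have h1 : Commute (g * w * g⁻¹ * u * (g * w * g⁻¹)) (g * (w * u * w) * g⁻¹) := by
      rw [← e]; exact (commute_cnj (h.sq hwD)).2 gu
    refine ⟨hwD, fun hc => hw.2.1 ((commute_conj_iff g).1
        (htr _ (h.conj g u hu) u hu _ hwD gu.symm hc)), ?_⟩
    exact htr v hv _ (h.conj g _ (h.cnj hw.1 hu)) _ (h.cnj hwD hu)
      (htr v hv _ (h.conj g v hv) _ (h.conj g _ (h.cnj hw.1 hu)) gv ((commute_conj_iff g).2 hw.2.2))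
      h1.symm
  have hcentral : ∀ {u v g : G}, u ∈ D → v ∈ D → ¬ Commute u v → g ^ p = 1 →
      Commute u (g * u * g⁻¹) → Commute v (g * v * g⁻¹) → ∀ {w0 w1 : G}, w0 ∈ swp D u v →
      w1 ∈ swp D u v → w0 ≠ w1 → Commute g (w0 * w1) := by
    intro u v g hu hv huv hg gu gv w0 w1 h0 h1 hn
    set b := w0 * w1 with hbdef
    have hb' : orderOf b = p := h.ord h0.1 h1.1 ((hswp hu hv huv).2.1 _ h0 _ h1 hn)
    have hbp : b ^ p = 1 := hb' ▸ pow_orderOf_eq_one b
    obtain ⟨j0, e0⟩ := hline hu hv huv h0 h1 hn _ (hconjswp hu hv gu gv w0 h0)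
    obtain ⟨j1, e1⟩ := hline hu hv huv h0 h1 hn _ (hconjswp hu hv gu gv w1 h1)
    have hi : ∃ i : ℕ, g * b * g⁻¹ = b ^ i := by
      have hinvl : w0 * b ^ j0 * w0 = b⁻¹ ^ j0 := by
        have e := conj_zpow_of_inverted (invol_conj_prod_left (h.invol _ h0.1) (h.invol _ h1.1)) j0
        rw [h.inv h0.1] at e
        rw [zpow_neg, zpow_natCast] at e
        rw [inv_pow]; exact e
      refine ⟨(p - 1) * j0 + j1, ?_⟩
      have e2 : g * b * g⁻¹ = w0 * b ^ j0 * w0 * b ^ j1 := by
        calc g * b * g⁻¹ = g * w0 * g⁻¹ * (g * w1 * g⁻¹) := by rw [hbdef]; group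
          _ = w0 * b ^ j0 * (w0 * b ^ j1) := by rw [e0, e1]
          _ = w0 * b ^ j0 * w0 * b ^ j1 := by group
      have e3 : b⁻¹ = b ^ (p - 1) := inv_eq_of_mul_eq_one_right (by
        rw [← pow_succ', Nat.sub_add_cancel h.prime.one_le, hbp])
      rw [e2, hinvl, e3, ← pow_mul, ← pow_add]
    obtain ⟨i, hi⟩ := hi
    have hn' : ∀ n : ℕ, g ^ n * b * (g ^ n)⁻¹ = b ^ (i ^ n) := by
      intro n
      induction n with
      | zero => simp
      | succ n ih =>
        calc g ^ (n + 1) * b * (g ^ (n + 1))⁻¹ = g * (g ^ n * b * (g ^ n)⁻¹) * g⁻¹ := by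
              rw [pow_succ' g n, mul_inv_rev]; group
          _ = (g * b * g⁻¹) ^ (i ^ n) := by rw [ih, conj_pow]
          _ = b ^ (i ^ (n + 1)) := by rw [hi, ← pow_mul, pow_succ']
    have h1' := hn' p
    rw [hg, one_mul, inv_one, mul_one] at h1'
    have h2 := eq_one_of_pow_card hb' h1'.symm
    show g * b = b * g
    rw [← mul_inv_eq_iff_eq_mul, hi, h2]
  -- an element of order `p` fixing two blocks inverts their exchangers
  have hinv : ∀ {u v a : G}, u ∈ D → v ∈ D → ¬ Commute u v → a ^ p = 1 →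
      (∀ e ∈ D, ¬ Commute e a) → Commute u (a * u * a⁻¹) → Commute v (a * v * a⁻¹) →
      ∀ w ∈ swp D u v, w * a * w = a⁻¹ := by
    intro u v a hu hv huv hap hfree au av w hw
    obtain ⟨hsc, hnc, hclo⟩ := hswp hu hv huv
    have hcard : (swp D u v).ncard = p := by rw [hsc, hblk hv]
    obtain ⟨w1, h1, hw1⟩ := Set.exists_ne_of_one_lt_ncard (by rw [hcard]; exact h.prime.one_lt) w
      (s := swp D u v)
    set b := w * w1 with hbdef
    have hww : ¬ Commute w w1 := hnc _ hw _ h1 hw1.symm
    have hbord : orderOf b = p := h.ord hw.1 h1.1 hww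
    have hbfix : ∀ {q : G}, q ∈ D → Commute (w * q * w) (w1 * q * w1) →
        Commute q (b * q * b⁻¹) := fun _ hc => (Sys.pair_fix_iff (h.sq hw.1) (h.sq h1.1)).2 hc
    have bu : Commute u (b * u * b⁻¹) := hbfix hu
      (htr _ (h.cnj hw.1 hu) v hv _ (h.cnj h1.1 hu) hw.2.2.symm h1.2.2)
    have bv : Commute v (b * v * b⁻¹) := hbfix hv
      (htr _ (h.cnj hw.1 hv) u hu _ (h.cnj h1.1 hv) (h.swp_symm hv huv hw).2.2.symm
        (h.swp_symm hv huv h1).2.2)
    have hbfree : ∀ e ∈ D, ¬ Commute e b := fun e he => h.pair_free htr he hw.1 h1.1 hww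
    have hab : Commute a b := hcentral hu hv huv hap au av hw h1 hw1.symm
    have horb : ∃ j : ℕ, a * u * a⁻¹ = b ^ j * u * (b ^ j)⁻¹ := by
      have hinj : Set.InjOn (fun j : ℕ => b ^ j * u * (b ^ j)⁻¹) (Set.Iio p) := by
        intro i hi j hj e
        by_contra hij
        apply hbfree u hu
        wlog hlt : i < j generalizing i j
        · exact this hj hi e.symm (Ne.symm hij) (by omega)
        have h2 : Commute u (b ^ (j - i)) := by
          have e' : b ^ i * u * (b ^ i)⁻¹ = b ^ i * (b ^ (j - i) * u * (b ^ (j - i))⁻¹) * (b ^ i)⁻¹ := by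
            calc b ^ i * u * (b ^ i)⁻¹ = b ^ j * u * (b ^ j)⁻¹ := e
              _ = b ^ i * b ^ (j - i) * u * (b ^ i * b ^ (j - i))⁻¹ := by
                    rw [← pow_add, Nat.add_sub_cancel' hlt.le]
              _ = _ := by group
          have := mul_left_cancel (mul_right_cancel e')
          exact (mul_inv_eq_iff_eq_mul.1 this.symm).symm
        have hcop : (j - i).Coprime (orderOf b) := by
          rw [hbord]
          exact (h.prime.coprime_iff_not_dvd.2 fun hd => by
            have := Nat.le_of_dvd (by omega) hd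
            simp only [Set.mem_Iio] at hj
            omega).symm
        obtain ⟨m, hm⟩ := exists_pow_eq_self_of_coprime hcop
        rw [← hm]
        exact h2.pow_right m
      have hsub : (fun j : ℕ => b ^ j * u * (b ^ j)⁻¹) '' Set.Iio p ⊆ blk D u := by
        rintro _ ⟨j, -, rfl⟩
        exact ⟨h.conj _ u hu, (h.stab htr hu).pow_mem bu j⟩
      have heq := Set.eq_of_subset_of_ncard_le hsub
        (by rw [hinj.ncard_image, Set.ncard_Iio_nat, hblk hu]) (Set.toFinite _)
      have : a * u * a⁻¹ ∈ blk D u := ⟨h.conj a u hu, au⟩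
      rw [← heq] at this
      obtain ⟨j, -, hj⟩ := this
      exact ⟨j, hj.symm⟩
    obtain ⟨j, hj⟩ := horb
    set c := (b ^ j)⁻¹ * a with hcdef
    have hbpow : b ^ p = 1 := hbord ▸ pow_orderOf_eq_one b
    have hcp : c ^ p = 1 := by
      rw [hcdef, (hab.symm.pow_left j).inv_left.mul_pow, hap, mul_one, inv_pow,
        eq_zpow_of_mul_eq hbpow, inv_one]
    have hcu : Commute c u := by
      show c * u = u * c
      rw [← mul_inv_eq_iff_eq_mul, hcdef, mul_inv_rev, inv_inv]
      calc (b ^ j)⁻¹ * a * u * (a⁻¹ * b ^ j) = (b ^ j)⁻¹ * (a * u * a⁻¹) * b ^ j := by group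
        _ = u := by rw [hj]; group
    have hcv : Commute v (c * v * c⁻¹) :=
      (h.stab htr hv).mul_mem ((h.stab htr hv).inv_mem ((h.stab htr hv).pow_mem bv j)) av
    have hc1 : c = 1 := by
      set v' := u * v * u with hv'def
      have hv'D : v' ∈ D := h.cnj hu hv
      have hvv' : ¬ Commute v v' := h.cnj_ne hv hu (fun e => huv e.symm)
      have hvv : Commute v' (c * v' * c⁻¹) := by
        have h2 := (commute_cnj (h.sq hu)).2 hcv
        have e : u * (c * v * c⁻¹) * u = c * v' * c⁻¹ := by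
          calc u * (c * v * c⁻¹) * u = u * c * v * (c⁻¹ * u) := by group
            _ = c * u * v * (u * c⁻¹) := by rw [hcu.eq, hcu.inv_left.eq]
            _ = c * v' * c⁻¹ := by rw [hv'def]; group
        rwa [e] at h2
      have hu' : u ∈ swp D v v' := ⟨hu, fun e => huv e.symm, Commute.refl _⟩
      have hcard' : 1 < (swp D v v').ncard := by
        rw [(hswp hv hv'D hvv').1, hblk hv'D]; exact h.prime.one_lt
      obtain ⟨q, hq, hqu⟩ := Set.exists_ne_of_one_lt_ncard hcard' u
      have hcq : Commute c q := by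
        have h2 := hcentral hv hv'D hvv' hcp hcv hvv hu' hq hqu.symm
        have h3 := hcu.mul_right h2
        rwa [← mul_assoc, h.sq hu, one_mul] at h3
      have huq : ¬ Commute u q := (hswp hv hv'D hvv').2.1 _ hu' _ hq hqu.symm
      -- a pair in the block of `u`
      obtain ⟨u2, hu2, hu2ne⟩ := Set.exists_ne_of_one_lt_ncard
        (show 1 < (blk D u).ncard by rw [hblk hu]; exact h.prime.one_lt) u
      have hr' := hprod u hu u2 hu2.1 hu2.2 hu2ne.symm
      have hu2q : ¬ Commute u2 q := fun e => huq (htr u hu u2 hu2.1 q hq.1 hu2.2 e)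
      have hr'q : ¬ Commute (u * u2) q := fun e => huq
        (htr u hu (u * u2) hr' q hq.1 ((Commute.refl u).mul_right hu2.2) e)
      have hcu2 : Commute c u2 := by
        have hcb : Commute c b := ((Commute.refl b).pow_left j).inv_left.mul_left hab
        have hsub : (fun i : ℕ => b ^ i * u * (b ^ i)⁻¹) '' Set.Iio p = blk D u := by
          refine Set.eq_of_subset_of_ncard_le ?_ ?_ (Set.toFinite _)
          · rintro _ ⟨i, -, rfl⟩
            exact ⟨h.conj _ u hu, (h.stab htr hu).pow_mem bu i⟩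
          · rw [hblk hu, Set.InjOn.ncard_image, Set.ncard_Iio_nat]
            intro i hi k hk e
            by_contra hik
            apply hbfree u hu
            wlog hlt : i < k generalizing i k
            · exact this hk hi e.symm (Ne.symm hik) (by omega)
            have h2 : Commute u (b ^ (k - i)) := by
              have e' : b ^ i * u * (b ^ i)⁻¹ =
                  b ^ i * (b ^ (k - i) * u * (b ^ (k - i))⁻¹) * (b ^ i)⁻¹ := by
                calc b ^ i * u * (b ^ i)⁻¹ = b ^ k * u * (b ^ k)⁻¹ := e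
                  _ = b ^ i * b ^ (k - i) * u * (b ^ i * b ^ (k - i))⁻¹ := by
                        rw [← pow_add, Nat.add_sub_cancel' hlt.le]
                  _ = _ := by group
              have := mul_left_cancel (mul_right_cancel e')
              exact (mul_inv_eq_iff_eq_mul.1 this.symm).symm
            have hcop : (k - i).Coprime (orderOf b) := by
              rw [hbord]
              exact (h.prime.coprime_iff_not_dvd.2 fun hd => by
                have := Nat.le_of_dvd (by omega) hd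
                simp only [Set.mem_Iio] at hk
                omega).symm
            obtain ⟨m, hm⟩ := exists_pow_eq_self_of_coprime hcop
            rw [← hm]
            exact h2.pow_right m
        rw [← hsub] at hu2
        obtain ⟨i, -, rfl⟩ := hu2
        exact ((hcb.pow_right i).mul_right hcu).mul_right (hcb.pow_right i).inv_right
      have htop := h.sub_top hb hu hu2.1 hq.1 hr' hu2.2 huq hu2q hr'q
        (K := Subgroup.centralizer ({c} : Set G))
        (Subgroup.mem_centralizer_singleton_iff.2 hcu.symm.eq)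
        (Subgroup.mem_centralizer_singleton_iff.2 hcu2.symm.eq)
        (Subgroup.mem_centralizer_singleton_iff.2 hcq.symm.eq)
      have hmem : c ∈ h.bker htr := fun e he => by
        have h4 : Commute e c :=
          Subgroup.mem_centralizer_singleton_iff.1 (htop ▸ Subgroup.mem_top e)
        rw [← h4.eq, mul_inv_cancel_right]
      rw [hK, Subgroup.mem_bot] at hmem
      exact hmem
    have haj : a = b ^ j := by
      rw [hcdef, inv_mul_eq_one] at hc1
      exact hc1.symm
    have hwb : w * b * w = b⁻¹ := by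
      have := invol_conj_prod_left (h.invol w hw.1) (h.invol w1 h1.1)
      rwa [h.inv hw.1] at this
    rw [haj, ← inv_pow, ← hwb]
    have := conj_pow (a := w) (b := b) (i := j)
    rw [h.inv hw.1] at this
    rw [this]
  -- a product fixing at least two blocks
  obtain ⟨f0, hf0, f1, hf1, hf01, hfix0⟩ := h.exists_free_pair htr hcl hx hy hxy
  have hN : p ∣ (blk D '' D).ncard := by
    have h1 := blocks_modEq h htr (a := f0 * f1) (h.pow_p hf0 hf1 hf01)
    have : blk D '' {v | fixes D v (f0 * f1)} = ∅ := by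
      rw [Set.image_eq_empty, Set.eq_empty_iff_forall_notMem]
      rintro v ⟨hv, hc⟩
      exact hfix0 v hv ((Sys.pair_fix_iff (h.sq hf0) (h.sq hf1)).1 hc)
    rw [this, Set.ncard_empty] at h1
    exact Nat.modEq_zero_iff_dvd.1 h1
  have hcardxy : 1 < (swp D x y).ncard := by
    rw [(hswp hx hy hxy).1, hblk hy]; exact h.prime.one_lt
  obtain ⟨w, hw, w', hw', hww'⟩ := (Set.one_lt_ncard (Set.toFinite _)).1 hcardxy
  have hwwn : ¬ Commute w w' := (hswp hx hy hxy).2.1 w hw w' hw' hww'
  set a := w * w' with hadef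
  have hap : a ^ p = 1 := h.pow_p hw.1 hw'.1 hwwn
  have hfree : ∀ e ∈ D, ¬ Commute e a := fun e he => h.pair_free htr he hw.1 hw'.1 hwwn
  have hax : Commute x (a * x * a⁻¹) := (Sys.pair_fix_iff (h.sq hw.1) (h.sq hw'.1)).2
    (htr _ (h.cnj hw.1 hx) y hy _ (h.cnj hw'.1 hx) hw.2.2.symm hw'.2.2)
  set Φ := blk D '' {v | fixes D v a} with hΦ
  have hpf : p ∣ Φ.ncard :=
    Nat.modEq_zero_iff_dvd.1 ((blocks_modEq h htr hap).symm.trans (Nat.modEq_zero_iff_dvd.2 hN))
  set I : Set G := {d | d ∈ D ∧ d * a * d = a⁻¹} with hI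
  have hInc : ∀ d ∈ I, ∀ d' ∈ I, d ≠ d' → ¬ Commute d d' := by
    intro d hd d' hd' hne' hc
    have hr' := hprod d hd.1 d' hd'.1 hc hne'
    apply hfree _ hr'
    have e1 : d * d' * a * (d * d') = a := by
      calc d * d' * a * (d * d') = d * d' * a * (d' * d) := by rw [hc.eq]
        _ = d * (d' * a * d') * d := by group
        _ = a := by
          rw [hd'.2]
          have := hd.2
          calc d * a⁻¹ * d = (d⁻¹ * a * d⁻¹)⁻¹ := by group
            _ = a := by rw [h.inv hd.1, this, inv_inv]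
    exact (cnj_eq_iff (h.sq hr')).1 e1
  have hIcl : ∀ d ∈ I, ∀ d' ∈ I, d * d' * d ∈ I := by
    intro d hd d' hd'
    refine ⟨h.cnj hd.1 hd'.1, ?_⟩
    have hd2 : d * a⁻¹ * d = a := by
      calc d * a⁻¹ * d = (d⁻¹ * a * d⁻¹)⁻¹ := by group
        _ = a := by rw [h.inv hd.1, hd.2, inv_inv]
    have hd2' : d' * a⁻¹ * d' = a := by
      calc d' * a⁻¹ * d' = (d'⁻¹ * a * d'⁻¹)⁻¹ := by group
        _ = a := by rw [h.inv hd'.1, hd'.2, inv_inv]
    calc d * d' * d * a * (d * d' * d) = d * (d' * (d * a * d) * d') * d := by group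
      _ = a⁻¹ := by rw [hd.2, hd2', hd.2]
  have hwI : w ∈ I := by
    refine ⟨hw.1, ?_⟩
    have := invol_conj_prod_left (h.invol w hw.1) (h.invol w' hw'.1)
    rwa [h.inv hw.1] at this
  obtain ⟨s, hs⟩ := h.closed_card (fun d hd => hd.1) ⟨w, hwI⟩ hInc hIcl
  have hIcount : I.ncard = p * (Φ.ncard - 1) := by
    haveI : Fintype G := Fintype.ofFinite G
    have hxΦ : blk D x ∈ Φ := ⟨x, ⟨hx, hax⟩, rfl⟩
    have hImap : ∀ d ∈ I, blk D (d * x * d) ∈ Φ \ {blk D x} := by
      intro d hd
      refine ⟨⟨d * x * d, ⟨h.cnj hd.1 hx, ?_⟩, rfl⟩, fun e => ?_⟩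
      · have hd2 : d * a⁻¹ = a * d := by
          calc d * a⁻¹ = d * (d * a * d) := by rw [hd.2]
            _ = a * d := by rw [← mul_assoc, ← mul_assoc, h.sq hd.1, one_mul]
        have hd3 : a⁻¹⁻¹ * d = d * a⁻¹ := by rw [inv_inv, hd2]
        have h1 : Commute x (a⁻¹ * x * a⁻¹⁻¹) := (h.stab htr hx).inv_mem hax
        have h2 := (commute_cnj (h.sq hd.1)).2 h1
        have e : d * (a⁻¹ * x * a⁻¹⁻¹) * d = a * (d * x * d) * a⁻¹ := by
          calc d * (a⁻¹ * x * a⁻¹⁻¹) * d = d * a⁻¹ * x * (a⁻¹⁻¹ * d) := by group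
            _ = a * d * x * (d * a⁻¹) := by rw [hd3, hd2]
            _ = a * (d * x * d) * a⁻¹ := by group
        rwa [e] at h2
      · have h1 : Commute x (d * x * d) :=
          ((h.blk_eq_iff htr (h.cnj hd.1 hx) hx).1 e).symm
        have hdx := (h.commute_self_cnj hx hd.1).1 h1
        have h2 : Commute d (a * d * a⁻¹) :=
          h.stab_rep htr hx hd.1 hdx hax
        apply hfree d hd.1
        refine h.commute_of_sq hap ?_
        have e3 : a * d * a⁻¹ = a ^ 2 * d := by
          calc a * d * a⁻¹ = a * (d * a⁻¹) := by group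
            _ = a * (d * (d * a * d)) := by rw [hd.2]
            _ = a ^ 2 * d := by rw [pow_two, ← mul_assoc d, ← mul_assoc d, h.sq hd.1, one_mul]; group
        rw [e3] at h2
        have h3 := h2.mul_right (Commute.refl d)
        rwa [mul_assoc, h.sq hd.1, mul_one] at h3
    have hcount : ∀ B ∈ (Φ \ {blk D x}).toFinset,
        (I.toFinset.filter fun d => blk D (d * x * d) = B).card = p := by
      intro B hB
      obtain ⟨⟨v, ⟨hv, hav⟩, rfl⟩, hBne⟩ := Set.mem_toFinset.1 hB
      have hxv : ¬ Commute x v := fun e => hBne ((h.blk_eq_iff htr hv hx).2 e.symm)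
      have hset : (↑(I.toFinset.filter fun d => blk D (d * x * d) = blk D v) : Set G) = swp D x v := by
        ext d
        simp only [Finset.coe_filter, Set.mem_toFinset, Set.mem_setOf_eq]
        constructor
        · rintro ⟨hd, e⟩
          have e2 := ((h.blk_eq_iff htr (h.cnj hd.1 hx) hv).1 e).symm
          refine ⟨hd.1, fun hc => hxv ?_, e2⟩
          rw [(cnj_eq_iff (h.sq hd.1)).2 hc.symm] at e2
          exact e2.symm
        · intro hd
          exact ⟨⟨hd.1, hinv hx hv hxv hap hfree hax hav d hd⟩,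
            (h.blk_eq_iff htr (h.cnj hd.1 hx) hv).2 hd.2.2.symm⟩
      rw [← Set.ncard_coe_finset, hset, (hswp hx hv hxv).1, hblk hv]
    have := Finset.card_eq_sum_card_fiberwise (f := fun d => blk D (d * x * d))
      (s := I.toFinset) (t := (Φ \ {blk D x}).toFinset)
      (fun d hd => Set.mem_toFinset.2 (hImap d (Set.mem_toFinset.1 hd)))
    rw [Finset.sum_congr rfl hcount, Finset.sum_const, smul_eq_mul, ← Set.ncard_eq_toFinset_card',
      ← Set.ncard_eq_toFinset_card', Set.ncard_sdiff_singleton_of_mem hxΦ] at this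
    rw [this, mul_comm]
  rw [hs] at hIcount
  have hΦ1 : 1 ≤ Φ.ncard := (Set.ncard_pos (Set.toFinite _)).2 ⟨_, x, ⟨hx, hax⟩, rfl⟩
  rcases s with _ | _ | s
  · rw [pow_zero] at hIcount
    have := Nat.eq_one_of_mul_eq_one_right hIcount.symm
    omega
  · rw [pow_one] at hIcount
    have h2 : Φ.ncard - 1 = 1 := Nat.eq_of_mul_eq_mul_left h.prime.pos (by rw [mul_one]; exact hIcount.symm)
    have := Nat.le_of_dvd (by omega) hpf
    omega
  · rw [pow_succ' p (s + 1)] at hIcount
    have h2 : p ^ (s + 1) = Φ.ncard - 1 := Nat.eq_of_mul_eq_mul_left h.prime.pos hIcount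
    have h3 : p ∣ Φ.ncard - 1 := h2 ▸ dvd_pow_self p (by omega)
    have h4 := Nat.dvd_sub hpf h3
    rw [show Φ.ncard - (Φ.ncard - 1) = 1 by omega] at h4
    exact h.prime.not_dvd_one h4

/-- For `p ≥ 5` no finite group has the configuration. -/
theorem noTri (p : ℕ) (h5 : 5 ≤ p) : ∀ n, NoTriBelow.{u} p n := by
  intro n
  induction n using Nat.strong_induction_on with
  | _ n ih =>
    intro H _ _ D hlt h x hx z hz y hy hr hxz hxy hzy hry
    have hb : NoTriBelow.{u} p (Nat.card H) := ih _ hlt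
    set D' := conjugatesOf y with hD'
    have hsub : D' ⊆ D := fun v hv => by
      obtain ⟨g, rfl⟩ := isConj_iff.1 (show IsConj y v from hv)
      exact h.conj g y hy
    have h' : Sys p D' :=
      { prime := h.prime
        ne_two := h.ne_two
        invol := fun d hd => h.invol d (hsub hd)
        conj := fun g d hd => (show IsConj y d from hd).trans (isConj_iff.2 ⟨g, rfl⟩)
        prod := fun d hd e he => h.prod d (hsub hd) e (hsub he) }
    have hmem : ∀ {d : H}, d ∈ D → ¬ Commute d y → d ∈ D' := fun {d} hd hdn =>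
      (isConj_of_odd_prod (h.invol d hd) (h.invol y hy)
        (by rw [h.ord hd hy hdn]; exact h.prime.odd_of_ne_two h.ne_two)).symm
    refine no_tri_step h' hb h5 rfl ?_ (hmem hx hxy) (hmem hz hzy) mem_conjugatesOf_self
      (hmem hr hry) hxz hxy hzy hry
    exact h.sub_top hb hx hz hy hr hxz hxy hzy hry (Subgroup.subset_closure (hmem hx hxy))
      (Subgroup.subset_closure (hmem hz hzy)) (Subgroup.subset_closure mem_conjugatesOf_self)

/-- For `p ≥ 5` commuting is transitive on a generating class. -/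
theorem commTrans_of_five_le [Finite G] (h : Sys p D) (h5 : 5 ≤ p) {d0 : G}
    (hcl : D = conjugatesOf d0) (hgen : Subgroup.closure D = ⊤) : CommTrans D :=
  fun _ ha _ hb _ hc hab hbc => h.trans_of_connected (noTri p h5 _) h5
    (hcl ▸ mem_conjugatesOf_self) hcl hgen ha hb hc hab hbc

end CfsgLib.ThreeTransp.TwoP
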