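import Mathlib
import Cfsg.Agent.Lib.ThreeTransp.TwoP.NoTri
import Cfsg.Agent.Lib.ThreeTransp.Blocks
import Cfsg.Agent.Lib.Involutions.ZStar.Main
import Cfsg.Agent.Lib.FT.OddOrderTheorem

/-!
A generating class of involutions with rank three in a group without solvable normal subgroups is a
class of 3-transpositions.
-/

set_option autoImplicit false
set_option linter.style.haveILetI false

namespace CfsgLib.ThreeTransp.TwoP

open CfsgLib.Involutions CfsgLib.ThreeTransp

universe u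

variable {G : Type u} [Group G] [Finite G] {D : Set G}

theorem oddCore_bot (hsol : ∀ N : Subgroup G, N.Normal → Group.IsSolvable ↥N → N = ⊥) :
    Cfsg.oddCore G = ⊥ :=
  hsol _ (Cfsg.pPrimeCore_normal 2 G) (CfsgLib.FT.isSolvable_of_odd (CfsgLib.Base.odd_card_oddCore G))

theorem pCore_bot (hsol : ∀ N : Subgroup G, N.Normal → Group.IsSolvable ↥N → N = ⊥) :
    Cfsg.pCore 2 G = ⊥ := by
  haveI : Fact (Nat.Prime 2) := ⟨Nat.prime_two⟩
  refine hsol _ inferInstance ?_
  haveI := (CfsgLib.Base.isPGroup_pCore 2 G).isNilpotent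
  infer_instance

/-- For `p ≥ 5` transitivity on non-commuting pairs is impossible without a solvable normal
subgroup, when some members commute. -/
theorem false_of_five_le {p : ℕ} (h : Sys p D) (h5 : 5 ≤ p)
    (hsol : ∀ N : Subgroup G, N.Normal → Group.IsSolvable ↥N → N = ⊥) {d0 : G}
    (hcl : D = conjugatesOf d0) (hgen : Subgroup.closure D = ⊤) {x v : G} (hx : x ∈ D) (hv : v ∈ D)
    (hxv : Commute x v) (hne : x ≠ v) (hnc : ∃ a ∈ D, ∃ b ∈ D, ¬ Commute a b)
    (htrans : ∀ a ∈ D, ∀ b ∈ D, ∀ c ∈ D, ∀ d ∈ D, ¬ Commute a b → ¬ Commute c d →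
      ∃ g : G, g * a * g⁻¹ = c ∧ g * b * g⁻¹ = d) : False := by
  classical
  have htr := commTrans_of_five_le h h5 hcl hgen
  obtain ⟨a, ha, b, hb, hab⟩ := hnc
  obtain ⟨f0, hf0, f1, hf1, hf01, hfix⟩ := h.exists_free_pair htr hcl ha hb hab
  -- products of non-commuting members fix no block
  have hfree : ∀ w ∈ D, ∀ w' ∈ D, ¬ Commute w w' → ∀ q ∈ D,
      ¬ Commute (w * q * w) (w' * q * w') := by
    intro w hw w' hw' hww q hq hc
    obtain ⟨g, hg, hg'⟩ := htrans w hw w' hw' f0 hf0 f1 hf1 hww hf01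
    apply hfix (g * q * g⁻¹) (h.conj g q hq)
    have h1 := (commute_conj_iff g).2 hc
    rw [← hg, ← hg']
    convert h1 using 1 <;> group
  -- products of commuting members fix all blocks
  have hall : ∀ w ∈ D, ∀ w' ∈ D, Commute w w' → ∀ q ∈ D, ¬ Commute q w →
      Commute (w * q * w) (w' * q * w') := by
    intro w hw w' hw' hww q hq hqw
    have hy := h.cnj hw hq
    have hqy : ¬ Commute q (w * q * w) := h.cnj_ne hq hw hqw
    have hsub : swp D q (w * q * w) ⊆ blk D w := by
      intro v' hv'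
      refine ⟨hv'.1, by_contra fun hn => hfree w hw v' hv'.1 hn q hq hv'.2.2⟩
    have heq : swp D q (w * q * w) = blk D w := Set.eq_of_subset_of_ncard_le hsub
      (by rw [h.swp_ncard htr hq hy hqy, h.blk_ncard_eq hcl hy hw]) (Set.toFinite _)
    have hm : w' ∈ swp D q (w * q * w) := by rw [heq]; exact ⟨hw', hww⟩
    exact hm.2.2
  set K := h.bker htr with hKdef
  haveI hKn : K.Normal := h.bker_normal htr
  have hmem : ∀ w ∈ D, ∀ w' ∈ D, Commute w w' → w * w' ∈ K := by
    intro w hw w' hw' hww q hq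
    rw [Sys.pair_fix_iff (h.sq hw) (h.sq hw')]
    by_cases hqw : Commute q w
    · have hqw' : Commute q w' := htr q hq w hw w' hw' hqw hww
      rw [(cnj_eq_iff (h.sq hw)).2 hqw.symm, (cnj_eq_iff (h.sq hw')).2 hqw'.symm]
    · exact hall w hw w' hw' hww q hq hqw
  have ht : orderOf (x * v) = 2 := by
    refine invol_iff.2 ⟨?_, fun e => hne ?_⟩
    · rw [← hxv.mul_mul_mul_comm, h.sq hx, h.sq hv, one_mul]
    · rw [eq_inv_of_mul_eq_one_left e, h.inv hv]
  set t : ↥K := ⟨x * v, hmem x hx v hv hxv⟩ with htdef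
  have htK : orderOf t = 2 := by rw [← Subgroup.orderOf_coe]; exact ht
  have hcore : t ∈ Cfsg.pCore 2 ↥K := by
    refine mem_pCore_of_commute_conj htK fun k => Subtype.ext ?_
    show x * v * ((k : G) * (x * v) * (k : G)⁻¹) = (k : G) * (x * v) * (k : G)⁻¹ * (x * v)
    have h1 : Commute x ((k : G) * x * (k : G)⁻¹) := k.2 x hx
    have hkx := h.conj (k : G) x hx
    have hkv := h.conj (k : G) v hv
    have h2 : Commute x ((k : G) * v * (k : G)⁻¹) :=
      htr x hx _ hkx _ hkv h1 ((commute_conj_iff (k : G)).2 hxv)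
    have h3 : Commute v ((k : G) * x * (k : G)⁻¹) := htr v hv x hx _ hkx hxv.symm h1
    have h4 : Commute v ((k : G) * v * (k : G)⁻¹) := htr v hv x hx _ hkv hxv.symm h2
    have e : (k : G) * (x * v) * (k : G)⁻¹ = (k : G) * x * (k : G)⁻¹ * ((k : G) * v * (k : G)⁻¹) := by
      group
    rw [e]
    exact ((h1.mul_right h2).mul_left (h3.mul_right h4)).eq
  have hm : x * v ∈ (Cfsg.pCore 2 ↥K).map K.subtype := ⟨t, hcore, rfl⟩
  rw [CfsgLib.Base.map_pCore_eq_inf K, pCore_bot hsol, bot_inf_eq, Subgroup.mem_bot] at hm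
  exact invol_ne_one ht hm

theorem three_transpositions (hsol : ∀ N : Subgroup G, N.Normal → Group.IsSolvable ↥N → N = ⊥)
    (hinv : ∀ d ∈ D, orderOf d = 2) (hconj : ∃ d ∈ D, D = conjugatesOf d)
    (hgen : Subgroup.closure D = ⊤)
    (hrank : ∀ x ∈ D, ∃ y ∈ D, ∃ z ∈ D,
      {w : G | ∃ g : G, Commute g x ∧ g * y * g⁻¹ = w} ≠ {w : G | ∃ g : G, Commute g x ∧ g * x * g⁻¹ = w} ∧
      {w : G | ∃ g : G, Commute g x ∧ g * z * g⁻¹ = w} ≠ {w : G | ∃ g : G, Commute g x ∧ g * x * g⁻¹ = w} ∧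
      {w : G | ∃ g : G, Commute g x ∧ g * y * g⁻¹ = w} ≠ {w : G | ∃ g : G, Commute g x ∧ g * z * g⁻¹ = w} ∧
      D = {w : G | ∃ g : G, Commute g x ∧ g * x * g⁻¹ = w} ∪
        {w : G | ∃ g : G, Commute g x ∧ g * y * g⁻¹ = w} ∪
        {w : G | ∃ g : G, Commute g x ∧ g * z * g⁻¹ = w}) :
    Cfsg.IsThreeTranspositionClass D := by
  classical
  obtain ⟨d, hd, hcl⟩ := hconj
  have hcD : ∀ g : G, ∀ e ∈ D, g * e * g⁻¹ ∈ D := fun g e he => by
    rw [hcl] at he ⊢
    exact (show IsConj d e from he).trans (isConj_iff.2 ⟨g, rfl⟩)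
  refine ⟨⟨hinv, ?_⟩, ⟨d, hd, hcl⟩, hgen⟩
  obtain ⟨y, hy, z, hz, hy1, hz1, -, hD⟩ := hrank d hd
  have orb_sub : ∀ {q w : G}, (∃ g : G, Commute g d ∧ g * q * g⁻¹ = w) →
      (Commute d w ↔ Commute d q) := by
    rintro q _ ⟨g, hg, rfl⟩
    have e : g * d * g⁻¹ = d := by rw [hg.eq, mul_inv_cancel_right]
    conv_lhs => rw [← e]
    exact commute_conj_iff g
  have hself : ∀ {w : G}, (∃ g : G, Commute g d ∧ g * d * g⁻¹ = w) → w = d := by
    rintro _ ⟨g, hg, rfl⟩
    rw [hg.eq, mul_inv_cancel_right]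
  have hne : ∀ {q : G}, {w : G | ∃ g : G, Commute g d ∧ g * q * g⁻¹ = w} ≠
      {w : G | ∃ g : G, Commute g d ∧ g * d * g⁻¹ = w} → q ≠ d := fun hq e => hq (by rw [e])
  -- not all members commute
  have hsome : ∃ q ∈ D, ¬ Commute d q := by
    by_contra hcon
    push_neg at hcon
    have hcen : d ∈ Subgroup.center G := by
      rw [Subgroup.mem_center_iff]
      intro g
      have hg : g ∈ Subgroup.centralizer ({d} : Set G) := by
        have hle : Subgroup.closure D ≤ Subgroup.centralizer ({d} : Set G) :=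
          (Subgroup.closure_le _).2 fun e he =>
            Subgroup.mem_centralizer_singleton_iff.2 (hcon e he).symm.eq
        exact hle (hgen ▸ Subgroup.mem_top g)
      exact Subgroup.mem_centralizer_singleton_iff.1 hg
    apply hne hy1
    rw [hcl] at hy
    obtain ⟨g, rfl⟩ := isConj_iff.1 (show IsConj d y from hy)
    rw [(Subgroup.mem_center_iff.1 hcen g), mul_inv_cancel_right]
  -- some other member commutes
  have hcom : ∃ q ∈ D, q ≠ d ∧ Commute d q := by
    by_contra hcon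
    push_neg at hcon
    have hiso : Cfsg.IsIsolatedInvolution d := ⟨hinv d hd, fun g hc => by
      by_contra hne'
      exact hcon _ (hcD g d hd) hne' hc⟩
    have hcen := CfsgLib.Involutions.ZStar.mem_center_of_oddCore_eq_bot hiso (oddCore_bot hsol)
    apply hne hy1
    rw [hcl] at hy
    obtain ⟨g, rfl⟩ := isConj_iff.1 (show IsConj d y from hy)
    rw [(Subgroup.mem_center_iff.1 hcen g), mul_inv_cancel_right]
  obtain ⟨q0, hq0, hq0n⟩ := hsome
  obtain ⟨q1, hq1, hq1ne, hq1c⟩ := hcom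
  -- the centraliser is transitive on the members not commuting with `d`
  have hmove : ∀ {a b : G}, a ∈ D → b ∈ D → ¬ Commute d a → ¬ Commute d b →
      ∃ g : G, g * d * g⁻¹ = d ∧ g * a * g⁻¹ = b := by
    intro a b ha hb hda hdb
    have cases' : ∀ {w : G}, w ∈ D → ¬ Commute d w →
        ((∃ g : G, Commute g d ∧ g * y * g⁻¹ = w) ∧ ¬ Commute d y) ∨
        ((∃ g : G, Commute g d ∧ g * z * g⁻¹ = w) ∧ ¬ Commute d z) := by
      intro w hw hdw
      rw [hD] at hw
      rcases hw with (hw | hw) | hw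
      · exact absurd (hself hw ▸ Commute.refl d) hdw
      · exact Or.inl ⟨hw, fun e => hdw ((orb_sub hw).2 e)⟩
      · exact Or.inr ⟨hw, fun e => hdw ((orb_sub hw).2 e)⟩
    have hone : Commute d y ∨ Commute d z := by
      have h1 := hq1
      rw [hD] at h1
      rcases h1 with (h1 | h1) | h1
      · exact absurd (hself h1) hq1ne
      · exact Or.inl ((orb_sub h1).1 hq1c)
      · exact Or.inr ((orb_sub h1).1 hq1c)
    have key : ∀ {q : G}, (∃ g : G, Commute g d ∧ g * q * g⁻¹ = a) →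
        (∃ g : G, Commute g d ∧ g * q * g⁻¹ = b) →
        ∃ g : G, g * d * g⁻¹ = d ∧ g * a * g⁻¹ = b := by
      rintro q ⟨g, hg, rfl⟩ ⟨g', hg', rfl⟩
      refine ⟨g' * g⁻¹, ?_, by group⟩
      rw [(hg'.mul_left hg.inv_left).eq, mul_inv_cancel_right]
    rcases cases' ha hda with ⟨ca, na⟩ | ⟨ca, na⟩ <;> rcases cases' hb hdb with ⟨cb, nb⟩ | ⟨cb, nb⟩
    · exact key ca cb
    · exact (hone.elim na nb).elim
    · exact (hone.elim nb na).elim
    · exact key ca cb
  have htrans : ∀ a ∈ D, ∀ b ∈ D, ∀ c ∈ D, ∀ e ∈ D, ¬ Commute a b → ¬ Commute c e →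
      ∃ g : G, g * a * g⁻¹ = c ∧ g * b * g⁻¹ = e := by
    intro a ha b hb c hc e he hab hce
    have ha' := ha; have hc' := hc
    rw [hcl] at ha' hc'
    obtain ⟨g, hg⟩ := isConj_iff.1 (show IsConj d a from ha').symm
    obtain ⟨k, hk⟩ := isConj_iff.1 (show IsConj d c from hc').symm
    obtain ⟨m, hm1, hm2⟩ := hmove (hcD g b hb) (hcD k e he)
      (fun hh => hab ((commute_conj_iff g).1 (hg ▸ hh))) (fun hh => hce ((commute_conj_iff k).1 (hk ▸ hh)))
    refine ⟨k⁻¹ * m * g, ?_, ?_⟩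
    · calc k⁻¹ * m * g * a * (k⁻¹ * m * g)⁻¹ = k⁻¹ * (m * (g * a * g⁻¹) * m⁻¹) * k := by group
        _ = k⁻¹ * d * k := by rw [hg, hm1]
        _ = c := by rw [← hk]; group
    · calc k⁻¹ * m * g * b * (k⁻¹ * m * g)⁻¹ = k⁻¹ * (m * (g * b * g⁻¹) * m⁻¹) * k := by group
        _ = e := by rw [hm2]; group
  set m := orderOf (d * q0) with hm
  have hord : ∀ a ∈ D, ∀ b ∈ D, ¬ Commute a b → orderOf (a * b) = m := by
    intro a ha b hb hab
    obtain ⟨g, hga, hgb⟩ := htrans d hd q0 hq0 a ha b hb hq0n hab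
    rw [← hga, ← hgb, show g * d * g⁻¹ * (g * q0 * g⁻¹) = g * (d * q0) * g⁻¹ by group,
      orderOf_conj_eq]
  have hm1 : m ≠ 1 := fun e => hq0n (by
    have h1 := orderOf_eq_one_iff.1 (hm ▸ e)
    rw [mul_eq_one_iff_inv_eq, invol_inv (hinv d hd)] at h1
    rw [h1])
  have hm2 : m ≠ 2 := fun e => hq0n ((invol_commute_iff (hinv d hd) (hinv q0 hq0)).2 (by
    rw [← e, hm, pow_orderOf_eq_one]))
  -- powers of a product are products
  set a := d * q0 with hadef
  have hpow : ∀ k : ℕ, m ∣ 4 * k ∨ orderOf (a ^ (2 * k)) = m := by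
    intro k
    have hv : d * a ^ ((2 * k : ℕ) : ℤ) ∈ D :=
      refl_mem hcD hd hq0 (hinv d hd) (hinv q0 hq0) _
    rw [zpow_natCast] at hv
    have e : d * (d * a ^ (2 * k)) = a ^ (2 * k) := by
      rw [← mul_assoc, invol_mul_self (hinv d hd), one_mul]
    by_cases hc : Commute d (d * a ^ (2 * k))
    · left
      have h1 := (invol_commute_iff (hinv d hd) (hinv _ hv)).1 hc
      rw [e, ← pow_mul] at h1
      rw [hm]
      exact orderOf_dvd_of_pow_eq_one (by rw [show 4 * k = 2 * k * 2 by ring]; exact h1)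
    · right
      have h1 := hord d hd _ hv hc
      rwa [e] at h1
  have hmpos : 0 < m := orderOf_pos _
  rcases Nat.even_or_odd m with ⟨j, hj⟩ | hodd
  · -- even: order four, so `d` lies in `O₂`
    have hm4 : m = 4 := by
      rcases hpow 1 with h1 | h1
      · have := Nat.le_of_dvd (by norm_num) h1; omega
      · rw [mul_one, orderOf_pow' a (by norm_num), ← hm,
          Nat.gcd_eq_right (show 2 ∣ m from ⟨j, by omega⟩)] at h1
        omega
    exfalso
    have hcore : d ∈ Cfsg.pCore 2 G := by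
      refine mem_pCore_two (hinv d hd) fun g => ⟨2, ?_⟩
      by_cases hc : Commute d (g * d * g⁻¹)
      · rw [show 2 ^ 2 = 2 * 2 from rfl, pow_mul,
          (invol_commute_iff (hinv d hd) (hinv _ (hcD g d hd))).1 hc, one_pow]
      · rw [show (2 : ℕ) ^ 2 = 4 from rfl, ← hm4, ← hord d hd _ (hcD g d hd) hc, pow_orderOf_eq_one]
    rw [pCore_bot hsol, Subgroup.mem_bot] at hcore
    exact invol_ne_one (hinv d hd) hcore
  · have hprime : m.Prime := by
      by_contra hnp
      obtain ⟨q, hqp, hqd⟩ := Nat.exists_prime_and_dvd hm1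
      have hq2 : q ≠ 2 := fun e => by
        rw [e] at hqd; obtain ⟨j, hj⟩ := hodd; omega
      have hqm : q ≠ m := fun e => hnp (e ▸ hqp)
      rcases hpow q with h1 | h1
      · have hcop : m.Coprime 4 := by
          have h2 : m.Coprime 2 := Nat.coprime_two_right.2 hodd
          exact h2.pow_right 2
        exact hqm (Nat.dvd_antisymm hqd (hcop.dvd_of_dvd_mul_left h1))
      · obtain ⟨c, hc⟩ := hqd
        have hcpos : 0 < c := by
          rcases Nat.eq_zero_or_pos c with e | e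
          · rw [e, mul_zero] at hc; omega
          · exact e
        have h2 : orderOf (a ^ (2 * q)) ∣ c := orderOf_dvd_of_pow_eq_one (by
          rw [← pow_mul, mul_assoc, ← hc, mul_comm 2 m, pow_mul, hm, pow_orderOf_eq_one, one_pow])
        rw [h1, hc] at h2
        have h3 := Nat.le_of_dvd hcpos h2
        have h4 : 2 * c ≤ q * c := Nat.mul_le_mul_right c hqp.two_le
        omega
    have hS : Sys m D :=
      { prime := hprime
        ne_two := hm2
        invol := hinv
        conj := hcD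
        prod := fun a ha b hb => by
          by_cases hab : Commute a b
          · exact Or.inl hab
          · exact Or.inr (by rw [← hord a ha b hb hab, pow_orderOf_eq_one]) }
    rcases Nat.lt_or_ge m 5 with h5 | h5
    · have hm3 : m = 3 := by
        have := hprime.two_le
        obtain ⟨j, hj⟩ := hodd; omega
      intro a ha b hb
      by_cases hab : Commute a b
      · exact Or.inl ((invol_commute_iff (hinv a ha) (hinv b hb)).1 hab)
      · exact Or.inr (by rw [← hm3, ← hord a ha b hb hab, pow_orderOf_eq_one])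
    · exact (false_of_five_le hS h5 hsol hcl hgen hd hq1 hq1c (Ne.symm hq1ne)
        ⟨d, hd, q0, hq0, hq0n⟩ htrans).elim

end CfsgLib.ThreeTransp.TwoP
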